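import Cfsg.Agent.Lib.USixFusion.CoverTool
import Cfsg.Agent.Lib.USixMult.Mult
import Cfsg.Prelude.Def_CaseTheorems

/-!
Every double cover of U6(2) is isomorphic to the centralizer of a transposition of Fi22.
-/

set_option autoImplicit false
set_option Elab.async false
set_option maxRecDepth 100000
set_option linter.style.haveILetI false

namespace CfsgLib.USixFusion

open Matrix CfsgLib.Fi22USix CfsgLib.CosetEnum CfsgLib.Schur.MonoCover CfsgLib.Fi22Pres CfsgLib.USixMult
open CfsgLib.HePres (K4)

/-- Two projections onto `PSU₆(2)` of the double cover and a balanced word telling them apart. -/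
theorem exists_pair_diag : ∃ σ₂ σ₃ : subA →* Cfsg.PSU 6 K4 2, σ₃ = diagPSU.toMonoidHom.comp σ₂ ∧
    Cfsg.IsStemExtension σ₂ ∧ Cfsg.IsStemExtension σ₃ ∧ Nat.card σ₂.ker = 2 ∧ Nat.card σ₃.ker = 2 ∧
    (∀ i ∈ distWord, i < 2 * 8 ∧
      σ₂ (e2 (if i < 8 then i else i - 8)) = σ₃ (e3 (if i < 8 then i else i - 8)) ∧
      (8 ≤ i → e2 i = (e2 (i - 8))⁻¹ ∧ e3 i = (e3 (i - 8))⁻¹)) ∧
    (∀ j < 8, distWord.count j = distWord.count (8 + j)) ∧
    (distWord.map e2).prod = 1 ∧ (distWord.map e3).prod ≠ 1 := by
  classical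
  obtain ⟨π, hπs, hcen, hk2, hπt⟩ := exists_proj
  obtain ⟨φ, hφ, -, hy⟩ := exists_model
  haveI : Finite Cfsg.Spor.Fi22 := finite_and_card.1
  haveI : IsSimpleGroup (Cfsg.PSU 6 K4 2) := psu_simple
  have hG : commutator (Cfsg.PSU 6 K4 2) = ⊤ :=
    (Subgroup.Normal.eq_bot_or_eq_top (inferInstance : (commutator _).Normal)).resolve_left fun h => by
      have hc : Subgroup.center (Cfsg.PSU 6 K4 2) = ⊤ := (commutator_eq_bot_iff_center_eq_top (G := Cfsg.PSU 6 K4 2)).1 h
      exact bot_ne_top (psu_center.symm.trans hc)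
  have hcomm : π.ker ≤ commutator subA := by
    by_contra hle
    obtain ⟨a, ha, huniq⟩ := (Nat.card_eq_two_iff' (1 : π.ker)).1 hk2
    have hdis : Disjoint (commutator subA) π.ker := Subgroup.disjoint_def.2 fun {x} hx hxk => by
      by_contra hx1
      refine hle fun y hy => ?_
      by_cases hy1 : y = 1
      · subst hy1; exact one_mem _
      · have ex := huniq ⟨x, hxk⟩ fun h => hx1 (congrArg Subtype.val h)
        have ey := huniq ⟨y, hy⟩ fun h => hy1 (congrArg Subtype.val h)
        rwa [← show x = y from congrArg Subtype.val (ex.trans ey.symm)]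
    refine Fi22USix.subA_cover.2.2 (commutator subA) ?_
    rw [hcen]
    refine Subgroup.isComplement'_of_disjoint_and_mul_eq_univ hdis.symm (Set.eq_univ_of_forall fun x => ?_)
    obtain ⟨d, hd, e⟩ := Schur.Triple.exists_mem_commutator π hπs (h := π x) (hG ▸ Subgroup.mem_top _)
    exact Set.mem_mul.2 ⟨x * d⁻¹, by
      rw [SetLike.mem_coe, MonoidHom.mem_ker, map_mul, map_inv, e, mul_inv_cancel], d, hd,
      inv_mul_cancel_right x d⟩
  have hstem : Cfsg.IsStemExtension π := ⟨hπs, hcen.ge, hcomm⟩
  obtain ⟨hstem', hker'⟩ := Schur.Triple.isStem_comp diagPSU hstem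
  -- the second lifts
  have h3 : ∀ j : Fin 8, diagPSU (π (e3 j)) = yl j := fun j => by
    rw [e3, if_pos j.2, map_prodW]
    have e : prodW (fun k => π (tA k)) (diagWord.getD j []) = prodW yl (diagWord.getD j []) := by
      simp only [prodW]
      exact congrArg List.prod (List.map_congr_left fun k hk => hπt k (diagShape j k hk))
    exact (congrArg diagPSU e).trans (diag_word j)
  have h2 : ∀ j : Fin 8, π (e2 j) = yl j := fun j => by rw [e2, if_pos j.2, hπt j j.2]
  have hlt : ∀ i ∈ distWord, i < 2 * 8 ∧ (if i < 8 then i else i - 8) < 8 := fun i hi => by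
    have := List.all_eq_true.1 distShape.1 i hi
    simp only [decide_eq_true_eq] at this
    refine ⟨this, ?_⟩
    split_ifs <;> omega
  have hinv : ∀ i, 8 ≤ i → i < 16 → e2 i = (e2 (i - 8))⁻¹ ∧ e3 i = (e3 (i - 8))⁻¹ := fun i h h' => by
    simp only [e2, e3, if_neg (show ¬ i < 8 by omega), if_pos (show i - 8 < 8 by omega), and_self]
  have hyinv : ∀ k < 8, (yl k)⁻¹ = yl k := fun k hk => by
    refine inv_eq_of_mul_eq_one_right (hφ (Equiv.ext fun i => Fin.ext ?_))
    rw [map_mul, map_one, Equiv.Perm.mul_apply, hy k hk, hy k hk]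
    have h := List.all_eq_true.1 distFix i (List.mem_range.2 i.2)
    rw [Bool.and_eq_true] at h
    have h' := List.all_eq_true.1 h.2 k (List.mem_range.2 hk)
    rw [Nat.beq_eq] at h'
    exact h'
  have hfold : ∀ (τ : subA →* Cfsg.PSU 6 K4 2) (e : ℕ → subA) (w : List ℕ),
      (∀ k ∈ w, τ (e k) = yl (k % 8)) → ∀ i : Fin 693,
      ((φ (τ (w.map e).prod) i : Fin 693) : ℕ) = pW (w.map fun k => k % 8) i := by
    intro τ e w
    induction w with
    | nil => intro _ i; simp [pW]
    | cons k w ih =>
      intro hw i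
      rw [List.forall_mem_cons] at hw
      rw [List.map_cons, List.prod_cons, map_mul, map_mul, Equiv.Perm.mul_apply, hw.1,
        hy _ (Nat.mod_lt _ (by norm_num)), ih hw.2, pW, pW, List.map_cons, List.foldr_cons]
  have himg : ∀ (τ : subA →* Cfsg.PSU 6 K4 2) (e : ℕ → subA), (∀ j : Fin 8, τ (e j) = yl j) →
      (∀ i, 8 ≤ i → i < 16 → e i = (e (i - 8))⁻¹) → τ (distWord.map e).prod = 1 := by
    intro τ e he hi
    refine hφ (Equiv.ext fun i => Fin.ext ?_)
    rw [map_one]
    have h := List.all_eq_true.1 distFix i (List.mem_range.2 i.2)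
    rw [Bool.and_eq_true, Nat.beq_eq] at h
    refine (hfold τ e distWord (fun k hk => ?_) i).trans h.1
    have hk' := (hlt k hk).1
    by_cases h8 : k < 8
    · rw [Nat.mod_eq_of_lt h8]; exact he ⟨k, h8⟩
    · rw [hi k (not_lt.1 h8) hk', map_inv, he ⟨k - 8, by omega⟩,
        hyinv _ (show k - 8 < 8 by omega)]
      congr 1
      omega
  have hz2 : π (distWord.map e2).prod = 1 := himg π e2 h2 fun i h h' => (hinv i h h').1
  have hz3 : π (distWord.map e3).prod = 1 := diagPSU.injective (by
    rw [map_one]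
    exact himg (diagPSU.toMonoidHom.comp π) e3 h3 fun i h h' => (hinv i h h').2)
  obtain ⟨x, hx, hsep⟩ := List.any_eq_true.1 distSep
  simp only [Bool.and_eq_true, Bool.not_eq_true', Nat.beq_eq] at hsep
  have hmove : certA.run x (certA.revInv (distWord.flatMap fl3)) ≠ x := fun h => by
    have := hsep.2
    rw [h] at this
    simp at this
  have hrun : ∀ (e : ℕ → subA) (fl : ℕ → List ℕ), (∀ i ∈ distWord, (e i : Cfsg.Spor.Fi22) = prodW gen (fl i)) →
      (distWord.flatMap fl).all (fun g => decide (g < certA.K)) = true →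
      (rho ((distWord.map e).prod : subA) (⟨x, List.mem_range.1 hx⟩ : Fin certA.N) : ℕ) =
        certA.run x (certA.revInv (distWord.flatMap fl)) := by
    intro e fl he hall
    rw [coe_prod e fl distWord he]
    exact setupA.rho_prodW (fun g hg => by simpa using List.all_eq_true.1 hall g hg) _
  have hc2 : ∀ i ∈ distWord, (e2 i : Cfsg.Spor.Fi22) = prodW gen (fl2 i) := fun i hi => by
    have h := (hlt i hi).1
    by_cases h8 : i < 8
    · rw [e2, fl2, if_pos h8, if_pos h8, tA_coe h8]
    · rw [e2, fl2, if_neg h8, if_neg h8, Subgroup.coe_inv, tA_coe (show i - 8 < 8 by omega),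
        prodW_reverse]
  have hc3 : ∀ i ∈ distWord, (e3 i : Cfsg.Spor.Fi22) = prodW gen (fl3 i) := fun i hi => by
    have h := (hlt i hi).1
    by_cases h8 : i < 8
    · rw [e3, fl3, if_pos h8, if_pos h8, flatA _ (diagShape ⟨i, h8⟩)]
    · rw [e3, fl3, if_neg h8, if_neg h8, Subgroup.coe_inv,
        flatA _ (diagShape ⟨i - 8, by omega⟩), prodW_reverse]
  have r2 := hrun e2 fl2 hc2 distShape.2.2.1
  have r3 := hrun e3 fl3 hc3 distShape.2.2.2
  have hne3 : (distWord.map e3).prod ≠ 1 := fun h => by
    rw [h, Subgroup.coe_one, map_one] at r3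
    exact absurd r3.symm hmove
  refine ⟨π, diagPSU.toMonoidHom.comp π, rfl, hstem, hstem', hk2, by rw [hker', hk2],
    fun i hi => ⟨(hlt i hi).1, ?_, fun h => hinv i h (hlt i hi).1⟩, distShape.2.1, ?_, hne3⟩
  · exact (h2 ⟨_, (hlt i hi).2⟩).trans (h3 ⟨_, (hlt i hi).2⟩).symm
  · by_contra hne
    obtain ⟨a, -, huniq⟩ := (Nat.card_eq_two_iff' (1 : π.ker)).1 hk2
    have ea := huniq ⟨_, hz2⟩ fun h => hne (congrArg Subtype.val h)
    have eb := huniq ⟨_, hz3⟩ fun h => hne3 (congrArg Subtype.val h)
    have e := congrArg Subtype.val (ea.trans eb.symm)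
    rw [show (distWord.map e2).prod = (distWord.map e3).prod from e] at r2
    rw [r2] at r3
    exact absurd (r3.symm.trans hsep.1) hmove


theorem dd_cube : ∀ i : Fin 6, dd i * (dd i * dd i) = 1 := fun i => (dd_di i).2.2.1

theorem diag_cube (x : Cfsg.PSU 6 K4 2) : diagPSU (diagPSU (diagPSU x)) = x := by
  induction x using QuotientGroup.induction_on with
  | H g =>
    have e : diagSU (diagSU (diagSU g)) = g := by
      have hco : ∀ g : SU62, ((diagSU g).1 : Matrix (Fin 6) (Fin 6) K4) =
          diagonal dd * (g.1 : Matrix (Fin 6) (Fin 6) K4) * diagonal di := fun g => rfl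
      refine Subtype.ext (Subtype.ext ?_)
      rw [hco, hco, hco]
      ext i j
      simp only [mul_diagonal, diagonal_mul]
      calc dd i * (dd i * (dd i * (g.1 : Matrix (Fin 6) (Fin 6) K4) i j * di j) * di j) * di j
          = (dd i * (dd i * dd i)) * (g.1 : Matrix (Fin 6) (Fin 6) K4) i j * (di j * (di j * di j)) := by ring
        _ = _ := by rw [(dd_di i).2.2.1, (dd_di j).2.2.2, one_mul, mul_one]
    exact congrArg (QuotientGroup.mk (s := Subgroup.center SU62)) e

/-- the double cover is unique up to isomorphism -/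
theorem exists_cover {B : Type} [Group B] [Finite B] {τ : B →* Cfsg.PSU 6 K4 2} (hτ : Cfsg.IsStemExtension τ)
    (kτ : Nat.card τ.ker = 2) : Nonempty (subA ≃* B) := by
  haveI : Finite Cfsg.Spor.Fi22 := Fi22Pres.finite_and_card.1
  obtain ⟨π, σ₃, hσ₃, hπ, hρ, kπ, kρ, hv, hbal, hv2, hv3⟩ := exists_pair_diag
  subst hσ₃
  set ρ := diagPSU.toMonoidHom.comp π with hρdef
  have hne : ∀ θ : subA →* subA, ρ.comp θ ≠ π := by
    intro θ hθ
    refine hv3 ?_
    letI : CommGroup (Subgroup.center subA) :=
      { (inferInstance : Group (Subgroup.center subA)) with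
        mul_comm := fun u v => Subtype.ext (Subgroup.mem_center_iff.mp v.2 u) }
    classical
    let c : ℕ → Subgroup.center subA := fun i =>
      if h : θ (e2 i) * (e3 i)⁻¹ ∈ ρ.ker then ⟨_, hρ.2.1 h⟩ else 1
    have hcv : ∀ i ∈ distWord, θ (e2 i) = (c i : subA) * e3 i ∧ c i = c (if i < 8 then i else i - 8) := by
      intro i hi
      obtain ⟨hi16, heq, hinv⟩ := hv i hi
      have hk : θ (e2 (if i < 8 then i else i - 8)) * (e3 (if i < 8 then i else i - 8))⁻¹ ∈ ρ.ker := by
        rw [MonoidHom.mem_ker, map_mul, map_inv, mul_inv_eq_one, ← MonoidHom.comp_apply, hθ]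
        exact heq
      by_cases h8 : i < 8
      · rw [if_pos h8] at hk ⊢
        refine ⟨?_, rfl⟩
        simp only [c, dif_pos hk]
        exact (inv_mul_cancel_right _ _).symm
      · rw [if_neg h8] at hk ⊢
        obtain ⟨u2, u3⟩ := hinv (not_lt.mp h8)
        have hcen := Subgroup.mem_center_iff.mp (hρ.2.1 hk)
        have hval : θ (e2 i) * (e3 i)⁻¹ = θ (e2 (i - 8)) * (e3 (i - 8))⁻¹ := by
          have hsq := sq_of_two kρ hk
          rw [u2, u3, map_inv, inv_inv]
          calc (θ (e2 (i - 8)))⁻¹ * e3 (i - 8)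
              = (θ (e2 (i - 8)))⁻¹ * (θ (e2 (i - 8)) * (e3 (i - 8))⁻¹)⁻¹ * θ (e2 (i - 8)) := by group
            _ = (θ (e2 (i - 8)))⁻¹ * (θ (e2 (i - 8)) * (e3 (i - 8))⁻¹) * θ (e2 (i - 8)) := by
              rw [inv_eq_of_mul_eq_one_right hsq]
            _ = θ (e2 (i - 8)) * (e3 (i - 8))⁻¹ := by
              rw [mul_assoc, ← hcen, inv_mul_cancel_left]
        have hk' : θ (e2 i) * (e3 i)⁻¹ ∈ ρ.ker := hval ▸ hk
        refine ⟨?_, ?_⟩
        · simp only [c, dif_pos hk']
          exact (inv_mul_cancel_right _ _).symm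
        · simp only [c, dif_pos hk', dif_pos hk]
          exact Subtype.ext hval
    have hcsq : ∀ i, c i * c i = 1 := fun i => by
      by_cases h : θ (e2 i) * (e3 i)⁻¹ ∈ ρ.ker
      · simp only [c, dif_pos h]
        exact Subtype.ext (sq_of_two kρ h)
      · simp only [c, dif_neg h, mul_one]
    have hsplit : ∀ v : List ℕ, (∀ i ∈ v, θ (e2 i) = (c i : subA) * e3 i) →
        θ (v.map e2).prod = (((v.map c).prod : Subgroup.center subA) : subA) * (v.map e3).prod := by
      intro v
      induction v with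
      | nil => intro _; simp
      | cons i v ih =>
        intro h
        rw [List.forall_mem_cons] at h
        rw [List.map_cons, List.prod_cons, map_mul, h.1, ih h.2, List.map_cons, List.prod_cons, List.map_cons,
          List.prod_cons, Subgroup.coe_mul]
        have hc' := Subgroup.mem_center_iff.mp (v.map c).prod.2 (e3 i)
        simp only [mul_assoc]
        rw [← mul_assoc (e3 i), hc', mul_assoc]
    have h := hsplit distWord fun i hi => (hcv i hi).1
    rw [hv2, map_one] at h
    have hc1 : (distWord.map c).prod = 1 := by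
      let f : ℕ → Subgroup.center subA := fun i => if i < 8 then c i else (c (i - 8))⁻¹
      have hf : ∀ i ∈ distWord, c i = f i := fun i hi => by
        rw [(hcv i hi).2]
        by_cases h8 : i < 8
        · simp only [f, if_pos h8]
        · simp only [f, if_neg h8]
          exact (inv_eq_of_mul_eq_one_right (hcsq _)).symm
      rw [List.map_congr_left hf, Data.prod_balanced 8 f (fun j hj => by
        simp only [f, if_pos hj, if_neg (show ¬ 8 + j < 8 by omega), Nat.add_sub_cancel_left]) distWord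
        fun i hi => (hv i hi).1]
      exact Finset.prod_eq_one fun j hj => by rw [hbal j (Finset.mem_range.1 hj), sub_self, zpow_zero]
    rw [hc1, OneMemClass.coe_one, one_mul] at h
    exact h.symm
  have hG : commutator (Cfsg.PSU 6 K4 2) = ⊤ := su6_facts.2.2
  -- a map over the quotient is an equivalence
  have hne' : ∀ θ : subA →* subA, π.comp θ ≠ ρ := by
    intro θ hθ
    have hbij : Function.Bijective θ := by
      have hs : Function.Surjective θ := by
        have hsup : ∀ x, ∃ z ∈ π.ker, ∃ r ∈ θ.range, x = z * r := fun x => by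
          obtain ⟨y, hy⟩ := hρ.1 (π x)
          refine ⟨x * (θ y)⁻¹, ?_, θ y, ⟨y, rfl⟩, by group⟩
          rw [MonoidHom.mem_ker, map_mul, map_inv, ← MonoidHom.comp_apply π θ, hθ, hy, mul_inv_cancel]
        haveI : θ.range.Normal := ⟨fun n hn g => by
          obtain ⟨z, hz, r, hr, rfl⟩ := hsup g
          have hzc := Subgroup.mem_center_iff.mp (hπ.2.1 hz)
          rw [show z * r * n * (z * r)⁻¹ = z * (r * n * r⁻¹) * z⁻¹ by group, ← hzc, mul_inv_cancel_right]
          exact mul_mem (mul_mem hr hn) (inv_mem hr)⟩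
        have hcom : IsMulCommutative (subA ⧸ θ.range) := by
          refine ⟨⟨fun u v => ?_⟩⟩
          obtain ⟨x, rfl⟩ := QuotientGroup.mk_surjective u
          obtain ⟨y, rfl⟩ := QuotientGroup.mk_surjective v
          obtain ⟨z, hz, r, hr, rfl⟩ := hsup x
          rw [QuotientGroup.mk_mul, (QuotientGroup.eq_one_iff r).mpr hr, mul_one, ← QuotientGroup.mk_mul,
            ← QuotientGroup.mk_mul, Subgroup.mem_center_iff.mp (hπ.2.1 hz) y]
        have hcp : commutator subA = ⊤ := Schur.CoverOfBound.stem_perfect hG hπ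
        intro x
        have hle : commutator subA ≤ θ.range := by
          rw [commutator_def, Subgroup.commutator_le]
          intro u _ v _
          rw [← QuotientGroup.eq_one_iff]
          show QuotientGroup.mk' θ.range _ = 1
          rw [map_commutatorElement, commutatorElement_eq_one_iff_commute]
          exact hcom.is_comm.comm _ _
        exact hle (hcp ▸ Subgroup.mem_top x)
      exact (Nat.bijective_iff_surjective_and_card θ).mpr ⟨hs, rfl⟩
    refine hne (MulEquiv.ofBijective θ hbij).symm.toMonoidHom (MonoidHom.ext fun x => ?_)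
    show ρ ((MulEquiv.ofBijective θ hbij).symm x) = π x
    rw [← hθ, MonoidHom.comp_apply]
    exact congrArg π ((MulEquiv.ofBijective θ hbij).apply_symm_apply x)
  obtain ⟨hc, kc⟩ := Schur.Triple.isStem_comp diagPSU hρ
  refine exists_iso hG multiplier_K4 hπ hρ hc kπ kρ (by rw [kc, kρ]) hne ?_ ?_ hτ kτ
  · intro θ hθ
    refine hne' θ (MonoidHom.ext fun x => ?_)
    have := congrArg (fun f : subA →* Cfsg.PSU 6 K4 2 => f x) hθ
    show π (θ x) = diagPSU (π x)
    change diagPSU (diagPSU (π (θ x))) = π x at this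
    rw [← this, diag_cube]
  · intro θ hθ
    refine hne θ (MonoidHom.ext fun x => diagPSU.injective ?_)
    exact congrArg (fun f : subA →* Cfsg.PSU 6 K4 2 => f x) hθ

end CfsgLib.USixFusion
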