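import Cfsg.Agent.Lib.USixFusion.Norm
import Cfsg.Agent.Lib.TypeM22.Invol
import Cfsg.Agent.Lib.Fi22Mult.Main
import Cfsg.Agent.Lib.ThreeTransp.Main

/-!
Every involution of the centralizer of a transposition of Fi22 is conjugate into the elementary abelian
subgroup of order 2^10.
-/

set_option autoImplicit false
set_option linter.unusedSectionVars false
set_option maxRecDepth 100000

namespace CfsgLib.USixFusion

open Cfsg Cfsg.Spor CfsgLib.ThreeTransp CfsgLib.ThreeTransp.Relations CfsgLib.TypeM22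
open CfsgLib.CosetEnum (prodW)
open CfsgLib.Fi22USix (transClass transClass_three)
open CfsgLib.Fi22Pres (gen subA)
open CfsgLib.M23 (toFi22)

theorem fi22_prim : IsPrimitiveUnderConj transClass := by
  haveI : IsSimpleGroup Fi22 := Fi22Pres.isFi22.1
  let eq := (MulEquiv.subgroupCongr Fi22Mult.fi22_perfect).trans Subgroup.topEquiv
  haveI : Nontrivial (commutator Fi22) := eq.toEquiv.nontrivial
  haveI : IsSimpleGroup (commutator Fi22) :=
    IsSimpleGroup.isSimpleGroup_of_surjective eq.symm.toMonoidHom eq.symm.surjective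
  refine primitive_of_simple_derived ⟨eq.symm (gen 2), eq.symm (gen 3), fun h => ?_⟩ transClass_three
  have h' := congrArg eq h
  rw [map_mul, map_mul, eq.apply_symm_apply, eq.apply_symm_apply] at h'
  have := (TypeM22.gen_commute (k := 2) (l := 3) (by norm_num) (by norm_num) (by norm_num)).1 h'
  revert this; decide +kernel

/-- the transpositions commuting with one, numbered over the points -/
theorem exists_pts22 : ∃ (φ : ℕ → Fi22) (Q : subA →* PSU6), Pts transClass (gen 0) φ ∧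
    (∀ x : subA, Q x = 1 → (x : Fi22) = 1 ∨ (x : Fi22) = gen 0) ∧
    ∀ i : Fin 693, ∃ y : subA, (y : Fi22) = φ i ∧ Q y = tb i := by
  haveI : Finite Fi22 := Fi22Pres.finite_and_card.1
  haveI : IsSimpleGroup Fi22 := Fi22Pres.isFi22.1
  have hcl := transClass_three
  have hD : IsThreeTranspositionGroup transClass :=
    ⟨hcl.1, fun g x hx => class22_conj g hx, hcl.2.2⟩
  have hd : gen 0 ∈ transClass := IsConj.refl _
  have hne : ∃ x y : ↥(perpGroup transClass (gen 0)), ¬ Commute x y := by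
    refine ⟨⟨gen 2, Subgroup.subset_closure (gen_mem_nbr (by norm_num) le_rfl)⟩,
      ⟨gen 3, Subgroup.subset_closure (gen_mem_nbr (by norm_num) (by norm_num))⟩, fun h => ?_⟩
    have := (TypeM22.gen_commute (k := 2) (l := 3) (by norm_num) (by norm_num) (by norm_num)).1
      (congrArg Subtype.val h)
    revert this; decide +kernel
  have hZ : Subgroup.center Fi22 = ⊥ := by
    refine (Subgroup.Normal.eq_bot_or_eq_top (inferInstance : (Subgroup.center Fi22).Normal)).resolve_right fun h => ?_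
    obtain ⟨x, y, hxy⟩ := hne
    exact hxy (Subtype.ext (Subgroup.mem_center_iff.mp
      (h.symm ▸ Subgroup.mem_top (x : Fi22) : (x : Fi22) ∈ Subgroup.center Fi22) (y : Fi22)).symm)
  have hsep : Sep transClass :=
    sep_of_pCore hcl.1 hD.2.1 (le_bot_iff.mp (hZ ▸ pCore_two_le_center hD fi22_prim))
  have hq : Nonempty (↥(perpGroup transClass (gen 0)) ⧸ Subgroup.center ↥(perpGroup transClass (gen 0)) ≃* PSU6) := by
    rw [perp22_eq]; exact Fi22USix.subA_cover.2.1
  obtain ⟨e⟩ := hq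
  let Q₀ : ↥(perpGroup transClass (gen 0)) →* PSU6 := e.toMonoidHom.comp (proj transClass (gen 0))
  have hcen : Subgroup.center ↥(perpGroup transClass (gen 0)) =
      (Subgroup.zpowers (gen 0)).subgroupOf (perpGroup transClass (gen 0)) := by
    rw [perp22_eq]; exact center_subA
  have hE := perpImage_isClass hcl fi22_prim hsep hd hne
  have hE' : IsThreeTranspositionClass (e.toMonoidHom '' perpImage transClass (gen 0)) :=
    class_image e.toMonoidHom e.surjective hE fun z hz e1 => by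
      have := hE.1.1 z hz
      rw [show z = 1 from e.map_eq_one_iff.1 e1, orderOf_one] at this
      exact absurd this (by norm_num)
  have hrange : e.toMonoidHom '' perpImage transClass (gen 0) = Set.range tb := (class_eq_tvSet hE').trans tvSet_eq
  have hex : ∀ i : Fin 693, ∃ x : ↥(perpGroup transClass (gen 0)),
      (x : Fi22) ∈ nbr transClass (gen 0) ∧ Q₀ x = tb i := fun i => by
    obtain ⟨_, ⟨x, hx, rfl⟩, hxe⟩ := (hrange ▸ Set.mem_range_self i : tb i ∈ e.toMonoidHom '' perpImage _ _)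
    exact ⟨x, hx, hxe⟩
  choose f hf hfe using hex
  have hinj : ∀ {x y : ↥(perpGroup transClass (gen 0))}, (x : Fi22) ∈ nbr transClass (gen 0) →
      (y : Fi22) ∈ nbr transClass (gen 0) → Q₀ x = Q₀ y → x = y := fun hx hy h1 =>
    proj_injective hcl hsep hd hx hy (e.injective h1)
  have hconj : ∀ i j, f i * f j * (f i)⁻¹ = f ⟨R i j, R_lt i.2 j.2⟩ := fun i j => by
    refine hinj (conj_mem_nbr hD.2.1 (commute_of_mem_perpGroup (f i).2) (hf j)) (hf _) ?_
    rw [hfe, ← tb_conj, ← hfe i, ← hfe j]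
    simp
  let φ : ℕ → Fi22 := fun i => if hi : i < 693 then (f ⟨i, hi⟩ : Fi22) else 1
  refine ⟨φ, Q₀.comp (MulEquiv.subgroupCongr perp22_eq.symm).toMonoidHom,
    ⟨fun hi => ?_, fun hi hj e' => ?_, fun {y} hy => ?_, fun {i j} hi hj => ?_, fun {i j} hi hj => ?_⟩,
    fun x hx => ?_, fun i => ?_⟩
  · simp only [φ, dif_pos hi]; exact hf _
  · simp only [φ, dif_pos hi, dif_pos hj] at e'
    have h1 := congrArg Q₀ (Subtype.ext e')
    simp only [hfe] at h1
    exact congrArg Fin.val (tb_inj h1)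
  · obtain ⟨i, hi⟩ := (hrange ▸ ⟨_, ⟨⟨y, Subgroup.subset_closure hy⟩, hy, rfl⟩, rfl⟩ :
      Q₀ ⟨y, Subgroup.subset_closure hy⟩ ∈ Set.range tb)
    refine ⟨i, i.2, ?_⟩
    simp only [φ, dif_pos i.2]
    exact congrArg Subtype.val (hinj (y := ⟨y, Subgroup.subset_closure hy⟩) (hf i) hy (by rw [hfe, hi]))
  · simp only [φ, dif_pos hi, dif_pos hj]
    rw [← tb_comm ⟨i, hi⟩ ⟨j, hj⟩]
    refine ⟨fun hc => ?_, fun hc => ?_⟩
    · rw [← hfe, ← hfe]
      exact (show Commute (f _) (f _) from Subtype.ext hc.eq).map Q₀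
    · have h1 := hconj ⟨i, hi⟩ ⟨j, hj⟩
      have hR : R i j = j := by
        have := congrArg Q₀ h1
        simp only [map_mul, map_inv, hfe, hc.eq, mul_inv_cancel_right] at this
        exact (congrArg Fin.val (tb_inj this)).symm
      simp only [hR] at h1
      exact (show Commute (f ⟨i, hi⟩) (f ⟨j, hj⟩) from mul_inv_eq_iff_eq_mul.1 h1).map (perpGroup _ _).subtype
  · simp only [φ, dif_pos hi, dif_pos hj, dif_pos (R_lt hi hj)]
    exact congrArg Subtype.val (hconj ⟨i, hi⟩ ⟨j, hj⟩)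
  · obtain ⟨z, hz⟩ : ∃ z : ↥(perpGroup transClass (gen 0)), z = MulEquiv.subgroupCongr perp22_eq.symm x := ⟨_, rfl⟩
    have hz' : z ∈ Subgroup.center _ := by
      rw [hz]
      exact (QuotientGroup.eq_one_iff _).1 (e.map_eq_one_iff.1 hx)
    have hzx : (z : Fi22) = x := by rw [hz]; rfl
    rw [hcen, Subgroup.mem_subgroupOf, Subgroup.mem_zpowers_iff, hzx] at hz'
    obtain ⟨k, hk⟩ := hz'
    rcases Int.even_or_odd' k with ⟨j, rfl | rfl⟩
    · left; rw [← hk, zpow_mul, zpow_two, mul_self_eq_one hcl.1 hd, one_zpow]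
    · right; rw [← hk, zpow_add_one, zpow_mul, zpow_two, mul_self_eq_one hcl.1 hd, one_zpow, one_mul]
  · refine ⟨⟨f i, perp22_eq ▸ (f i).2⟩, ?_, hfe i⟩
    simp only [φ, dif_pos i.2]

/-- the points of the line of the first two -/
noncomputable def lineB (s : ℕ) : Bool :=
  perpB s 0 && perpB s 2 && (List.range 693).all fun u => !(perpB u 0 && perpB u 2) || perpB u s

theorem line_ok : ((List.range 693).filter lineB).length ≤ 5 := by decide +kernel

/-- normalising a sequence of points with a pattern -/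
theorem to_leaf {φ : ℕ → Fi22} (P : Pts transClass (gen 0) φ)
    {ls : List (List Bool × List (List ℕ × List (ℕ × List ℕ)))} (hls : treeChk ls [[]] = true) {r : List ℕ}
    (hl : leaves ls [[]] = [r]) {vs : List ℕ} (hv : ∀ u ∈ vs, u < 693)
    (hf : fits (ls.map Prod.fst) [] vs = true) :
    ∃ g ∈ subA, r.map φ = vs.map fun u => g * φ u * g⁻¹ := by
  obtain ⟨w, hw, hmem⟩ := norm (pre := []) hls (List.mem_singleton_self _) (by simpa using hv) hf
  rw [hl, List.mem_singleton, List.nil_append] at hmem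
  refine ⟨prodW φ w, mem_of_comm (P.commute_prodW hw), ?_⟩
  rw [← hmem, List.map_map]
  exact List.map_congr_left fun u hu => P.conj_act hw (hv u hu)

theorem fits_one (p : ℕ) : fits ((triTree.take 1).map Prod.fst) [] [p] = true := by
  have e : (triTree.take 1).map Prod.fst = [[]] := by decide +kernel
  rw [e]; rfl

theorem fits_two {φ : ℕ → Fi22} (P : Pts transClass (gen 0) φ) {p q : ℕ} (hp : p < 693) (hq : q < 693)
    (hne : φ p ≠ φ q) (hc : Commute (φ p) (φ q)) : fits ((triTree.take 2).map Prod.fst) [] [p, q] = true := by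
  have e : (triTree.take 2).map Prod.fst = [[], [false]] := by decide +kernel
  have h1 : Nat.beq q p = false := Bool.eq_false_iff.2 fun e => hne (congrArg φ (Nat.eq_of_beq_eq_true e)).symm
  rw [e]
  simp [fits, fitB, h1, (P.comm hq hp).1 hc.symm]

theorem fits_tri {φ : ℕ → Fi22} (P : Pts transClass (gen 0) φ) {p q s u : ℕ} (hp : p < 693) (hq : q < 693)
    (hs : s < 693) (hu : u < 693) (hpq : φ p ≠ φ q) (hps : φ p ≠ φ s) (hqs : φ q ≠ φ s)
    (cpq : Commute (φ p) (φ q)) (cps : Commute (φ p) (φ s)) (cqs : Commute (φ q) (φ s))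
    (cup : Commute (φ u) (φ p)) (cuq : Commute (φ u) (φ q)) (cus : ¬ Commute (φ u) (φ s)) :
    fits (triTree.map Prod.fst) [] [p, q, s, u] = true := by
  have e : triTree.map Prod.fst = [[], [false], [false, false], [false, false, true]] := by decide +kernel
  have hne : ∀ {a b : ℕ}, φ a ≠ φ b → Nat.beq a b = false := fun {a b} h =>
    Bool.eq_false_iff.2 fun e => h (congrArg φ (Nat.eq_of_beq_eq_true e))
  have hup : φ u ≠ φ p := fun e => cus (e ▸ cps)
  have huq : φ u ≠ φ q := fun e => cus (e ▸ cqs)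
  have hus : φ u ≠ φ s := fun e => cus (e ▸ Commute.refl _)
  rw [e]
  simp [fits, fitB, hne hpq.symm, hne hps.symm, hne hqs.symm, hne hup, hne huq, hne hus,
    (P.comm hq hp).1 cpq.symm, (P.comm hs hp).1 cps.symm, (P.comm hs hq).1 cqs.symm, (P.comm hu hp).1 cup,
    (P.comm hu hq).1 cuq, Bool.eq_false_iff.2 fun h => cus ((P.comm hu hs).2 h)]

theorem E22_comm {x y : Fi22} (hx : x ∈ E22) (hy : y ∈ E22) : Commute x y :=
  congrArg Subtype.val (CfsgLib.Fi22Syl.img_base_elem.1.is_comm.comm (⟨x, hx⟩ : E22) ⟨y, hy⟩)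

/-- ten transpositions of the subgroup besides the fixed one -/
theorem ten_transpositions : ∃ t : Fin 10 → Fi22, Function.Injective t ∧
    ∀ k, t k ∈ E22 ∧ t k ∈ nbr transClass (gen 0) := by
  have hperp : ∀ k < 11, Fi23Syl.bG k ∈ M23.perp Fi23Pres.transClass Fi23Pres.coverZ := fun k hk => by
    refine ⟨(Fi22Syl.bG_class hk).1, (Fi22Syl.bG_class hk).2, ?_⟩
    rw [← Fi22Syl.aG_z, ← show Fi23Syl.aG (2 ^ k) = Fi23Syl.bG k from Fi23Syl.pUp_two_pow Fi23Syl.bG hk]
    exact Fi23Syl.aG_comm _ _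
  let t : ∀ k < 11, Fi22 := fun k hk => toFi22 ⟨Fi23Syl.bG k, M23.perp_mem (hperp k hk)⟩
  have htE : ∀ k (hk : k < 11), t k hk ∈ E22 := fun k hk =>
    Subgroup.mem_map_of_mem _ (Subgroup.mem_subgroupOf.2 (Fi23Syl.mem_baseSub.mpr
      ⟨2 ^ k, Nat.pow_lt_pow_right (n := 11) (by norm_num) hk, (Fi23Syl.pUp_two_pow Fi23Syl.bG hk).symm⟩))
  have hti : ∀ k (hk : k < 11) l (hl : l < 11), t k hk = t l hl → k = l := fun k hk l hl h => by
    have hb := M23.perp_eq (hperp k hk) (hperp l hl) h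
    have := Fi23Syl.aG_inj (Nat.pow_lt_pow_right (n := 11) (by norm_num) hk)
      (Nat.pow_lt_pow_right (n := 11) (by norm_num) hl)
      (show Fi23Syl.aG (2 ^ k) = Fi23Syl.aG (2 ^ l) by
        rw [show Fi23Syl.aG (2 ^ k) = _ from Fi23Syl.pUp_two_pow Fi23Syl.bG hk,
          show Fi23Syl.aG (2 ^ l) = _ from Fi23Syl.pUp_two_pow Fi23Syl.bG hl, hb])
    exact Nat.pow_right_injective le_rfl this
  have ht0 : t 0 (by norm_num) = gen 0 := by
    rw [← eu_one, eu, pr_val]
    refine congrArg toFi22 (Subtype.ext ?_)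
    exact (Fi23Syl.pUp_two_pow (n := 11) (j := 0) Fi23Syl.bG (by norm_num)).symm
  have h0E : gen 0 ∈ E22 := ht0 ▸ htE 0 (by norm_num)
  refine ⟨fun k => t (k + 1) (by omega), fun k l h => Fin.ext (by
      have := hti (k + 1) (by omega) (l + 1) (by omega) h; omega),
    fun k => ⟨htE (k + 1) (by omega), M23.toFi22_perp (hperp (k + 1) (by omega)), fun e => ?_,
      E22_comm h0E (htE (k + 1) (by omega))⟩⟩
  have := hti (k + 1) (by omega) 0 (by omega) (e.trans ht0.symm)
  omega

/-- every involution of the centralizer is conjugate into the subgroup of order 2^10 -/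
theorem invol_into {x : subA} (hx : x * x = 1) : ∃ g : subA, ((g * x * g⁻¹ : subA) : Fi22) ∈ E22 := by
  classical
  obtain ⟨φ, Q, P, hker, hQ⟩ := exists_pts22
  obtain ⟨t, htinj, ht⟩ := ten_transpositions
  choose pi hpi hφt using fun k => P.surj (ht k).2
  have htne : ∀ {k l}, k ≠ l → φ (pi k) ≠ φ (pi l) := fun {k l} h e => h (htinj (by rw [← hφt, ← hφt, e]))
  have htc : ∀ k l, Commute (φ (pi k)) (φ (pi l)) := fun k l => by
    rw [hφt, hφt]; exact E22_comm (ht k).1 (ht l).1
  -- two of them first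
  obtain ⟨g₁, hg₁, e₁⟩ := to_leaf P triTree_take.2.2.1 triTree_take.2.2.2 (vs := [pi 0, pi 1])
    (by simp [hpi]) (fits_two P (hpi _) (hpi _) (htne (by decide)) (htc _ _))
  simp only [List.map_cons, List.map_nil, List.cons.injEq, and_true] at e₁
  have hc₁ : ∀ y ∈ nbr transClass (gen 0), g₁ * y * g₁⁻¹ ∈ nbr transClass (gen 0) := fun y hy =>
    conj_mem_nbr (fun g x hx => class22_conj g hx) (comm_of_mem hg₁) hy
  choose si hsi hφs using fun k => P.surj (hc₁ _ (P.mem (hpi k)))
  have hsinj : Function.Injective si := fun k l h => htinj (by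
    have := congrArg φ h
    rw [hφs, hφs] at this
    rw [← hφt, ← hφt, show φ (pi k) = φ (pi l) by simpa using this])
  obtain ⟨k, hk⟩ : ∃ k, lineB (si k) = false := by
    by_contra! hall
    have hsub : (Finset.univ.image si) ⊆ ((List.range 693).filter lineB).toFinset := fun y hy => by
      obtain ⟨k, -, rfl⟩ := Finset.mem_image.mp hy
      rw [List.mem_toFinset, List.mem_filter, List.mem_range]
      exact ⟨hsi k, by simpa using hall k⟩
    have := ((Finset.card_le_card hsub).trans (List.toFinset_card_le _)).trans line_ok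
    rw [Finset.card_image_of_injective _ hsinj] at this
    simp at this
  have cs : ∀ j, Commute (φ (si k)) (g₁ * φ (pi j) * g₁⁻¹) := fun j => by
    rw [hφs]; exact (htc k j).map (MulAut.conj g₁)
  have cs0 : Commute (φ (si k)) (φ 0) := e₁.1 ▸ cs 0
  have cs2 : Commute (φ (si k)) (φ 2) := e₁.2 ▸ cs 1
  rw [lineB, (P.comm (hsi k) (by norm_num)).1 cs0, (P.comm (hsi k) (by norm_num)).1 cs2] at hk
  simp only [Bool.true_and, List.all_eq_false, List.mem_range, Bool.or_eq_true, Bool.not_eq_true',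
    not_or, Bool.not_eq_false, Bool.not_eq_true, Bool.and_eq_true] at hk
  obtain ⟨u, hu, ⟨hu0, hu2⟩, hus⟩ := hk
  have cus : ¬ Commute (φ u) (φ (si k)) := fun h => by
    rw [(P.comm hu (hsi k)).1 h] at hus; exact absurd hus (by simp)
  have hs0 : φ 0 ≠ φ (si k) := fun e => cus (e ▸ (P.comm hu (by norm_num)).2 hu0)
  have hs2 : φ 2 ≠ φ (si k) := fun e => cus (e ▸ (P.comm hu (by norm_num)).2 hu2)
  have h02 : φ 0 ≠ φ 2 := fun e => by simpa using P.inj (by norm_num) (by norm_num) e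
  have c02 : Commute (φ 0) (φ 2) := by
    rw [e₁.1, e₁.2]; exact (htc 0 1).map (MulAut.conj g₁)
  obtain ⟨g₂, hg₂, e₂⟩ := to_leaf P triTree_ok.1 triTree_ok.2 (vs := [0, 2, si k, u])
    (by simp [hsi, hu]) (fits_tri P (by norm_num) (by norm_num) (hsi k) hu h02 hs0 hs2 c02 cs0.symm cs2.symm
      ((P.comm hu (by norm_num)).2 hu0) ((P.comm hu (by norm_num)).2 hu2) cus)
  simp only [List.map_cons, List.map_nil, List.cons.injEq, and_true] at e₂
  -- the three standard members are carried into the subgroup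
  obtain ⟨g, hg, hgE⟩ : ∃ g ∈ subA, ∀ i ∈ [0, 2, 4], g * φ i * g⁻¹ ∈ E22 := by
    refine ⟨(g₂ * g₁)⁻¹, inv_mem (mul_mem hg₂ hg₁), ?_⟩
    have key : ∀ {i j}, φ i = g₂ * (g₁ * φ (pi j) * g₁⁻¹) * g₂⁻¹ →
        (g₂ * g₁)⁻¹ * φ i * (g₂ * g₁)⁻¹⁻¹ ∈ E22 := fun {i j} h => by
      rw [h, show (g₂ * g₁)⁻¹ * (g₂ * (g₁ * φ (pi j) * g₁⁻¹) * g₂⁻¹) * (g₂ * g₁)⁻¹⁻¹ = φ (pi j) by group, hφt]
      exact (ht j).1
    simp only [List.mem_cons, List.not_mem_nil, or_false, forall_eq_or_imp, forall_eq]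
    exact ⟨key (j := 0) (by rw [← e₁.1]; exact e₂.1), key (j := 1) (by rw [← e₁.2]; exact e₂.2.1),
      key (j := k) (by rw [← hφs]; exact e₂.2.2.1)⟩
  have h0E : gen 0 ∈ E22 := eu_one ▸ (eu 1).2
  -- from a product of points
  choose y hy hQy using hQ
  have finish : ∀ (vs : List (Fin 693)) (r : List ℕ), (∀ i ∈ r, i ∈ [0, 2, 4]) →
      (∃ h ∈ subA, r.map φ = (vs.map Fin.val).map fun u => h * φ u * h⁻¹) → Q x = (vs.map tb).prod →
      ∃ g : subA, ((g * x * g⁻¹ : subA) : Fi22) ∈ E22 := by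
    rintro vs r hr ⟨h, hh, eh⟩ hQx
    refine ⟨⟨g * h, mul_mem hg hh⟩, ?_⟩
    have hp : (g * h) * ((vs.map y).prod : subA) * (g * h)⁻¹ ∈ E22 := by
      rw [← MulAut.conj_apply, SubmonoidClass.coe_list_prod, map_list_prod, List.map_map, List.map_map]
      refine list_prod_mem fun z hz => ?_
      obtain ⟨v, hv, rfl⟩ := List.mem_map.mp hz
      show g * h * (y v : Fi22) * (g * h)⁻¹ ∈ E22
      obtain ⟨i, hi, ei⟩ := List.mem_map.mp
        (eh ▸ List.mem_map_of_mem (List.mem_map_of_mem hv) : h * φ v * h⁻¹ ∈ r.map φ)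
      rw [show g * h * (y v : Fi22) * (g * h)⁻¹ = g * (h * (y v : Fi22) * h⁻¹) * g⁻¹ by group, hy, ← ei]
      exact hgE i (hr i hi)
    have hd : Q (x * ((vs.map y).prod)⁻¹) = 1 := by
      rw [map_mul, map_inv, map_list_prod, List.map_map, hQx,
        show (Q ∘ y) = tb from funext hQy, mul_inv_cancel]
    show g * h * (x : Fi22) * (g * h)⁻¹ ∈ E22
    have hgh : Commute (g * h) (gen 0) := comm_of_mem (mul_mem hg hh)
    rcases hker _ hd with e | e <;> rw [Subgroup.coe_mul, Subgroup.coe_inv, mul_inv_eq_iff_eq_mul] at e <;> rw [e]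
    · rwa [one_mul]
    · rw [show g * h * (gen 0 * ((vs.map y).prod : subA)) * (g * h)⁻¹ =
        g * h * gen 0 * (g * h)⁻¹ * (g * h * ((vs.map y).prod : subA) * (g * h)⁻¹) by group, hgh.eq,
        mul_inv_cancel_right]
      exact mul_mem h0E hp
  have hQQ : Q x * Q x = 1 := by rw [← map_mul, hx, map_one]
  have hcom : ∀ {i j : Fin 693}, Commute (tb i) (tb j) ↔ Commute (φ i) (φ j) := fun {i j} =>
    ((P.comm i.2 j.2).trans (tb_comm i j).symm).symm
  have hnei : ∀ {i j : Fin 693}, i ≠ j → φ i ≠ φ j := fun h e => h (Fin.ext (P.inj (Fin.is_lt _) (Fin.is_lt _) e))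
  rcases invol_split hQQ with h | ⟨i, h⟩ | ⟨i, j, hij, cij, h⟩ |
      ⟨i, j, k', v, hij, hik, hjk, cij, cik, cjk, cvi, cvj, cvk, h⟩
  · exact finish [] [] (by simp) ⟨1, one_mem _, rfl⟩ h
  · exact finish [i] [0] (by simp) (to_leaf P triTree_take.1 triTree_take.2.1 (vs := [(i : ℕ)]) (by simp)
      (fits_one _)) (by simpa using h)
  · exact finish [i, j] [0, 2] (by simp) (to_leaf P triTree_take.2.2.1 triTree_take.2.2.2 (vs := [(i : ℕ), j])
      (by simp) (fits_two P i.2 j.2 (hnei hij) (hcom.1 cij))) (by simpa using h)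
  · obtain ⟨h', hh, eh⟩ := to_leaf P triTree_ok.1 triTree_ok.2 (vs := [(i : ℕ), j, k', v]) (by simp)
      (fits_tri P i.2 j.2 k'.2 v.2 (hnei hij) (hnei hik) (hnei hjk) (hcom.1 cij) (hcom.1 cik) (hcom.1 cjk)
        (hcom.1 cvi) (hcom.1 cvj) fun hc => cvk (hcom.2 hc))
    simp only [List.map_cons, List.map_nil, List.cons.injEq, and_true] at eh
    exact finish [i, j, k'] [0, 2, 4] (by simp) ⟨h', hh, by simp [eh.1, eh.2.1, eh.2.2.1]⟩
      (by simpa [mul_assoc] using h)

end CfsgLib.USixFusion
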