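import Cfsg.Agent.Lib.USixFusion.Checks
import Cfsg.Agent.Lib.Fi22Fusion.Norm

/-!
The automorphisms induced on the elementary abelian subgroup of order 2^10 by its normalizer in 2.U6(2).
-/

set_option autoImplicit false
set_option linter.unusedSectionVars false
set_option maxHeartbeats 1000000

namespace CfsgLib.USixFusion

open CfsgLib.CosetEnum CfsgLib.Fi23Syl Cfsg.Spor
open CfsgLib.Fi22Syl (zVec aG_z img qc)
open CfsgLib.Fi22Fusion (el el_xor el_inj el_surj nAct nTrans memB memB_iff bp L card_step)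
open CfsgLib.M23 (toFi22 toFi22_surjective)

/-- the elementary abelian subgroup of Fi22 -/
noncomputable abbrev E22 : Subgroup Fi22 := img baseSub

/-- the projection onto it -/
noncomputable def pr : baseSub →* E22 :=
  (toFi22.comp (Subgroup.inclusion CfsgLib.Fi22Syl.baseSub_le_subA)).codRestrict E22 fun a =>
    Subgroup.mem_map_of_mem _ (Subgroup.mem_subgroupOf.mpr a.2)

theorem pr_val (a : baseSub) :
    (pr a : Fi22) = toFi22 ⟨a, CfsgLib.Fi22Syl.baseSub_le_subA a.2⟩ := rfl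

theorem pr_surj : Function.Surjective pr := by
  rintro ⟨x, hx⟩
  obtain ⟨a, ha, rfl⟩ := Subgroup.mem_map.mp hx
  exact ⟨⟨a, Subgroup.mem_subgroupOf.mp ha⟩, Subtype.ext rfl⟩

/-- a member of it -/
noncomputable def eu (v : ℕ) : E22 := pr (el v)

theorem eu_xor (v w : ℕ) : eu (v ^^^ w) = eu v * eu w := by rw [eu, el_xor, map_mul]; rfl

theorem eu_surj (a : E22) : ∃ v < 2048, eu v = a := by
  obtain ⟨b, rfl⟩ := pr_surj a
  obtain ⟨v, hv, rfl⟩ := el_surj b
  exact ⟨v, hv, rfl⟩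

theorem ker_pr {a : baseSub} (h : pr a = 1) : a = 1 ∨ a = el zVec := by
  have hk : (⟨a, CfsgLib.Fi22Syl.baseSub_le_subA a.2⟩ : Fi23Pres.subA) ∈ toFi22.ker :=
    MonoidHom.mem_ker.mpr (congrArg Subtype.val h)
  rcases CfsgLib.Fi22Syl.zKer_cases (CfsgLib.Fi22Syl.toFi22_ker ▸ hk) with e | e
  · exact Or.inl (Subtype.ext (congrArg Subtype.val e :))
  · exact Or.inr (Subtype.ext ((congrArg Subtype.val e :).trans aG_z.symm))

theorem pr_z : pr (el zVec) = 1 := Subtype.ext (by
  rw [pr_val]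
  refine MonoidHom.mem_ker.mp ?_
  rw [CfsgLib.Fi22Syl.toFi22_ker]
  rw [show (⟨(el zVec : Fi23), CfsgLib.Fi22Syl.baseSub_le_subA (el zVec).2⟩ : Fi23Pres.subA) = Fi23Pres.zSub
    from Subtype.ext aG_z]
  exact Subgroup.mem_zpowers _)

theorem eu_inj {v w : ℕ} (hv : v < 2048) (hw : w < 2048) (h : eu v = eu w) : v = w ∨ v = w ^^^ zVec := by
  have h1 : pr (el v * (el w)⁻¹) = 1 := by rw [map_mul, map_inv]; exact mul_inv_eq_one.mpr h
  rcases ker_pr h1 with e | e
  · exact Or.inl (el_inj hv hw (mul_inv_eq_one.mp e))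
  · refine Or.inr (el_inj hv (Nat.xor_lt_two_pow (n := 11) hw CfsgLib.Fi22Fusion.z_lt) ?_)
    rw [mul_inv_eq_iff_eq_mul] at e
    rw [e, ← el_xor, Nat.xor_comm]

theorem E22_card : Nat.card E22 = 1024 := CfsgLib.Fi22Syl.img_base_card

theorem aG_one : aG 1 = Fi23Pres.gen 0 := by
  rw [show aG 1 = bG 0 from pUp_two_pow (n := 11) (j := 0) bG (by norm_num), bG]
  have : bW 0 = [0] := by decide +kernel
  rw [this, prodW_cons, prodW_nil, mul_one]

theorem eu_one : (eu 1 : Fi22) = Fi22Pres.gen 0 := by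
  rw [eu, pr_val, ← CfsgLib.M23.toFi22_gen (k := 0) (by norm_num)]
  exact congrArg toFi22 (Subtype.ext aG_one)

theorem mem_base {x : Fi23Pres.subA} (h : toFi22 x ∈ E22) : (x : Fi23) ∈ baseSub := by
  obtain ⟨b, hb, eb⟩ := Subgroup.mem_map.mp h
  have hk : b⁻¹ * x ∈ toFi22.ker := by rw [MonoidHom.mem_ker, map_mul, map_inv, eb, inv_mul_cancel]
  have hm : ((b⁻¹ * x : Fi23Pres.subA) : Fi23) ∈ baseSub := by
    rcases CfsgLib.Fi22Syl.zKer_cases (CfsgLib.Fi22Syl.toFi22_ker ▸ hk) with h | h <;> rw [h]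
    · exact one_mem _
    · exact CfsgLib.Fi22Syl.zSub_base
  have := mul_mem (Subgroup.mem_subgroupOf.mp hb) hm
  rwa [← Subgroup.coe_mul, mul_inv_cancel_left] at this

/-- the automorphisms induced by the normalizer in the centralizer of the transposition -/
noncomputable def K22 : Subgroup (MulAut E22) :=
  ((Fi22Pres.subA).subgroupOf (Subgroup.normalizer (E22 : Set Fi22))).map E22.normalizerMonoidHom

theorem comm_of_mem {n : Fi22} (h : n ∈ Fi22Pres.subA) : Commute n (Fi22Pres.gen 0) :=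
  Fi22USix.comm_central n h

theorem mem_of_comm {n : Fi22} (h : Commute n (Fi22Pres.gen 0)) : n ∈ Fi22Pres.subA := by
  rw [← Fi22USix.centralizer_central]
  exact Subgroup.mem_centralizer_singleton_iff.mpr h

theorem K22_mk {n : Fi22} (hn : n ∈ Fi22Pres.subA) (hnorm : ∀ a : E22, n * (a : Fi22) * n⁻¹ ∈ E22) :
    ∃ κ ∈ K22, ∀ a : E22, (κ a : Fi22) = n * a * n⁻¹ := by
  have hN : n ∈ Subgroup.normalizer (E22 : Set Fi22) := by
    rw [Subgroup.mem_normalizer_iff_map_conj_eq]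
    refine Subgroup.eq_of_le_of_card_ge ?_ (le_of_eq ?_)
    · rintro - ⟨a, ha, rfl⟩
      exact hnorm ⟨a, ha⟩
    · exact Nat.card_congr (E22.equivMapOfInjective _ (MulAut.conj n).injective).toEquiv
  exact ⟨_, Subgroup.mem_map_of_mem E22.normalizerMonoidHom (x := ⟨n, hN⟩)
    (Subgroup.mem_subgroupOf.mpr hn), fun a => rfl⟩

theorem K22_spec {κ : MulAut E22} (h : κ ∈ K22) :
    ∃ n ∈ Fi22Pres.subA, ∀ a : E22, (κ a : Fi22) = n * a * n⁻¹ := by
  obtain ⟨n, hn, rfl⟩ := Subgroup.mem_map.mp h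
  exact ⟨n, Subgroup.mem_subgroupOf.mp hn, fun a => rfl⟩

theorem K22_fix {κ : MulAut E22} (h : κ ∈ K22) : κ (eu 1) = eu 1 := by
  obtain ⟨n, hn, e⟩ := K22_spec h
  refine Subtype.ext ((e _).trans ?_)
  rw [eu_one, (comm_of_mem hn).eq, mul_inv_cancel_right]

theorem bp_zero : bp 0 = 1 := CfsgLib.Fi22Fusion.base_ok.2.2

theorem L_one {κ : MulAut baseSub} : κ ∈ L 1 ↔ κ ∈ CfsgLib.Fi22Fusion.K ∧ κ (el 1) = el 1 := by
  show κ ∈ L 0 ⊓ MulAction.stabilizer (MulAut baseSub) (el (bp 0)) ↔ _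
  rw [Subgroup.mem_inf, bp_zero]
  rfl

theorem lift_exists {κ : MulAut baseSub} (h : κ ∈ L 1) :
    ∃ κ' ∈ K22, ∀ a, κ' (pr a) = pr (κ a) := by
  obtain ⟨hK, h1⟩ := L_one.mp h
  obtain ⟨m, hm, hma⟩ := CfsgLib.Fi22Fusion.K_spec hK
  have hpr : ∀ a : baseSub, toFi22 ⟨m, hm⟩ * (pr a : Fi22) * (toFi22 ⟨m, hm⟩)⁻¹ = (pr (κ a) : Fi22) := fun a => by
    rw [pr_val, pr_val, ← map_inv, ← map_mul, ← map_mul]
    exact congrArg toFi22 (Subtype.ext (hma a).symm)
  have hn : toFi22 ⟨m, hm⟩ ∈ Fi22Pres.subA := mem_of_comm (by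
    have := hpr (el 1)
    rw [h1, show (pr (el 1) : Fi22) = Fi22Pres.gen 0 from eu_one] at this
    exact mul_inv_eq_iff_eq_mul.mp this)
  obtain ⟨κ', hκ', h'⟩ := K22_mk hn fun a => by
    obtain ⟨b, rfl⟩ := pr_surj a
    rw [hpr]
    exact (pr (κ b)).2
  exact ⟨κ', hκ', fun a => Subtype.ext ((h' _).trans (hpr a))⟩

/-- the induced automorphism on the image -/
noncomputable def down (κ : L 1) : MulAut E22 := (lift_exists κ.2).choose

theorem down_mem (κ : L 1) : down κ ∈ K22 := (lift_exists κ.2).choose_spec.1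

theorem down_pr (κ : L 1) (a : baseSub) : down κ (pr a) = pr ((κ : MulAut baseSub) a) :=
  (lift_exists κ.2).choose_spec.2 a

theorem down_inj : Function.Injective down := by
  intro κ κ' h
  have h1 : ∀ a, pr ((κ : MulAut baseSub) a) = pr ((κ' : MulAut baseSub) a) := fun a => by
    rw [← down_pr, h, down_pr]
  obtain ⟨f, hf, -, -, hT⟩ := CfsgLib.Fi22Fusion.K_map (L_one.mp κ.2).1
  obtain ⟨f', hf', -, -, hT'⟩ := CfsgLib.Fi22Fusion.K_map (L_one.mp κ'.2).1
  have hagree : ∀ v ∈ nTrans, (κ : MulAut baseSub) (el v) = (κ' : MulAut baseSub) (el v) := by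
    intro v hv
    have e : eu (f v) = eu (f' v) := by
      unfold eu
      rw [← (hf v).2, ← (hf' v).2, h1]
    rcases eu_inj (hf v).1 (hf' v).1 e with e | e
    · rw [(hf v).2, (hf' v).2, e]
    · exfalso
      have hs := List.all_eq_true.mp trans_sep (f' v) (hT' v hv)
      rw [← e, memB_iff.mpr (hT v hv)] at hs
      simp at hs
  refine Subtype.ext (MulEquiv.ext fun a => ?_)
  obtain ⟨v, -, rfl⟩ := el_surj a
  let F : Subgroup baseSub := ((κ : MulAut baseSub).toMonoidHom).eqLocus (κ' : MulAut baseSub).toMonoidHom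
  have hmem : aG v ∈ F.map baseSub.subtype := pUp_mem (fun k hk => Subgroup.mem_map.mpr
    ⟨el (2 ^ k), hagree _ (memB_iff.mp (allBelow_spec CfsgLib.Fi22Fusion.trans_basis k hk)), pUp_two_pow bG hk⟩) v
  obtain ⟨b, hb, e⟩ := Subgroup.mem_map.mp hmem
  obtain rfl : b = el v := Subtype.ext e
  exact hb

theorem down_surj : ∀ κ' ∈ K22, ∃ κ : L 1, down κ = κ' := by
  intro κ' h'
  obtain ⟨n, hn, hna⟩ := K22_spec h'
  obtain ⟨⟨m, hm⟩, rfl⟩ := toFi22_surjective n
  have hpr : ∀ a : baseSub, toFi22 (⟨m, hm⟩ * ⟨a, CfsgLib.Fi22Syl.baseSub_le_subA a.2⟩ * ⟨m, hm⟩⁻¹) =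
      (κ' (pr a) : Fi22) := fun a => by
    rw [map_mul, map_mul, map_inv, hna, pr_val]
  have hnorm : ∀ v < 2048, m * aG v * m⁻¹ ∈ baseSub := fun v _ =>
    mem_base (x := ⟨m, hm⟩ * ⟨aG v, CfsgLib.Fi22Syl.baseSub_le_subA (CfsgLib.Fi22Fusion.el_mem v)⟩ * ⟨m, hm⟩⁻¹)
      ((hpr (el v)).symm ▸ (κ' (pr (el v))).2)
  obtain ⟨κ, hκ, hκa⟩ := CfsgLib.Fi22Fusion.K_mk hm hnorm
  have hκ1 : κ (el 1) = el 1 := by
    refine Subtype.ext ((hκa _).trans ?_)
    show m * aG 1 * m⁻¹ = aG 1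
    rw [aG_one]
    have hg := CfsgLib.M23.gen_perp (k := 0) (by norm_num)
    have hc : CfsgLib.M23.perp Fi23Pres.transClass Fi23Pres.coverZ (m * Fi23Pres.gen 0 * m⁻¹) :=
      CfsgLib.M23.perp_conj (fun g x hx => CfsgLib.M23.class_conj hx) (Fi23Pres.centralizer_central.symm ▸ hm) hg
    refine CfsgLib.M23.perp_eq hc hg ?_
    rw [show (⟨m * Fi23Pres.gen 0 * m⁻¹, CfsgLib.M23.perp_mem hc⟩ : Fi23Pres.subA) =
      ⟨m, hm⟩ * ⟨Fi23Pres.gen 0, Fi23Pres.gen_mem (by norm_num)⟩ * ⟨m, hm⟩⁻¹ from Subtype.ext rfl,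
      map_mul, map_mul, map_inv, CfsgLib.M23.toFi22_gen (k := 0) (by norm_num)]
    rw [(comm_of_mem hn).eq, mul_inv_cancel_right]
  refine ⟨⟨κ, L_one.mpr ⟨hκ, hκ1⟩⟩, MulEquiv.ext fun b => ?_⟩
  obtain ⟨a, rfl⟩ := pr_surj b
  rw [down_pr]
  refine Subtype.ext ?_
  rw [← hpr, pr_val]
  exact congrArg toFi22 (Subtype.ext (hκa a))

theorem card_K22 : Nat.card K22 = 20160 := by
  have hb : Function.Bijective (fun κ : L 1 => (⟨down κ, down_mem κ⟩ : K22)) :=
    ⟨fun a b e => down_inj (congrArg Subtype.val e), fun κ' => by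
      obtain ⟨κ, hκ⟩ := down_surj κ'.1 κ'.2
      exact ⟨κ, Subtype.ext hκ⟩⟩
  rw [← Nat.card_eq_of_bijective _ hb]
  have h := card_step (L 0) (el (bp 0))
  rw [show (L 0 : Subgroup (MulAut baseSub)) = CfsgLib.Fi22Fusion.K from rfl, CfsgLib.Fi22Fusion.card_K] at h
  have h1 := CfsgLib.Fi22Fusion.orbit_upper (i := 0) (by norm_num)
  have h2 := CfsgLib.Fi22Fusion.orbit_lower (i := 0) (by norm_num)
  have e1 : (CfsgLib.Fi22Fusion.allowed 0).length = 22 ∧ (CfsgLib.Fi22Fusion.nLevels.getD 0 []).length = 22 := by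
    constructor
    · simpa [List.range, List.range.loop] using congrArg (fun l => l.getD 0 0) CfsgLib.Fi22Fusion.allowed_size
    · simpa [List.range, List.range.loop] using congrArg (fun l => l.getD 0 0) CfsgLib.Fi22Fusion.level_size
  rw [show (L 0 : Subgroup (MulAut baseSub)) = CfsgLib.Fi22Fusion.K from rfl] at h1 h2
  rw [e1.1] at h1
  rw [e1.2] at h2
  have h3 : Nat.card (MulAction.orbit CfsgLib.Fi22Fusion.K (el (bp 0))) = 22 := le_antisymm h1 h2
  rw [h3] at h
  show Nat.card (L 1) = 20160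
  change 443520 = 22 * Nat.card (L 1) at h
  omega

theorem K22_word {k : ℕ} (hk : k < 2) : ∃ κ ∈ K22, ∀ v, κ (eu v) = eu (nAct (uW k) v) := by
  have h := allBelow_spec uWords_ok k hk
  simp only [Bool.and_eq_true, List.all_eq_true, Nat.blt_eq] at h
  obtain ⟨κ, hκ, hκv⟩ := CfsgLib.Fi22Fusion.K_word h.1
  have h1 : κ (el 1) = el 1 := by rw [hκv, Nat.eq_of_beq_eq_true h.2]
  exact ⟨_, down_mem ⟨κ, L_one.mpr ⟨hκ, h1⟩⟩, fun v => by
    rw [eu, down_pr]
    show pr (κ (el v)) = _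
    rw [hκv]; rfl⟩

theorem comb_xor (us : List ℕ) (c c' : ℕ) : comb us (c ^^^ c') = comb us c ^^^ comb us c' := sUp_xor _ _ _ _

theorem comb_zero (us : List ℕ) : comb us 0 = 0 := by simp [comb, sUp]

theorem base_comm (a b : baseSub) : Commute a b := by
  obtain ⟨u, -, rfl⟩ := el_surj a
  obtain ⟨w, -, rfl⟩ := el_surj b
  exact Subtype.ext (aG_comm u w)

theorem fixed_ge (μ : MulAut baseSub) {i : ℕ} (hi : i < 35) (hμ : ∀ u, μ (el u) = el (act (qc i) u)) :
    128 ≤ Nat.card {a : baseSub // μ a = a} := by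
  classical
  have hspan : ∀ k < 11, ∃ c < 16, comb (nthWord uSpans i) c = disp (qc i) (2 ^ k) := fun k hk => by
    have h := allBelow_spec (allBelow_spec uSpan_ok i hi) k hk
    rw [List.any_eq_true] at h
    obtain ⟨c, hc, ec⟩ := h
    exact ⟨c, List.mem_range.mp hc, Nat.eq_of_beq_eq_true ec⟩
  generalize qc i = e at hμ hspan
  generalize nthWord uSpans i = us at hspan
  let ψ : baseSub →* baseSub :=
    { toFun := fun a => μ a * a
      map_one' := by rw [map_one, one_mul]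
      map_mul' := fun a b => by rw [map_mul]; exact (base_comm (μ b) a).mul_mul_mul_comm (μ a) b }
  have hψ : ∀ u, ψ (el u) = el (disp e u) := fun u => by
    show μ (el u) * el u = _
    rw [hμ, disp, el_xor]
  obtain ⟨S, hS, hScard⟩ : ∃ S : Finset baseSub, (∀ x, x ∈ S ↔ ∃ c < 16, el (comb us c) = x) ∧ S.card ≤ 16 :=
    ⟨(Finset.range 16).image fun c => el (comb us c), fun x => by
      simp only [Finset.mem_image, Finset.mem_range], Finset.card_image_le.trans (Finset.card_range 16).le⟩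
  let P : Subgroup baseSub :=
    { carrier := {a | ψ a ∈ S}
      one_mem' := by
        show ψ 1 ∈ S
        rw [map_one, hS]
        exact ⟨0, by norm_num, by rw [comb_zero]; exact Subtype.ext aG_zero⟩
      mul_mem' := fun {a b} ha hb => by
        obtain ⟨c, hc, ec⟩ := (hS _).mp ha
        obtain ⟨c', hc', ec'⟩ := (hS _).mp hb
        show ψ (a * b) ∈ S
        refine (hS _).mpr ⟨c ^^^ c', Nat.xor_lt_two_pow (n := 4) hc hc', ?_⟩
        rw [comb_xor, el_xor, map_mul, ec, ec']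
      inv_mem' := fun {a} ha => by
        obtain ⟨w, -, rfl⟩ := el_surj a
        rwa [inv_eq_of_mul_eq_one_right (CfsgLib.Fi22Fusion.el_self w)] }
  have hall : ∀ a, ψ a ∈ S := fun a => by
    obtain ⟨u, -, rfl⟩ := el_surj a
    have hmem : aG u ∈ P.map baseSub.subtype := pUp_mem (fun k hk => Subgroup.mem_map.mpr ⟨el (2 ^ k), by
        obtain ⟨c, hc, ec⟩ := hspan k hk
        show ψ (el (2 ^ k)) ∈ S
        exact (hS _).mpr ⟨c, hc, by rw [hψ, ec]⟩, pUp_two_pow bG hk⟩) u
    obtain ⟨b, hb, e'⟩ := Subgroup.mem_map.mp hmem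
    obtain rfl : b = el u := Subtype.ext e'
    exact hb
  have hrange : Nat.card ψ.range ≤ 16 := by
    refine le_trans (Nat.card_mono (t := (↑S : Set baseSub)) (Finset.finite_toSet _) ?_) ?_
    · rintro _ ⟨a, rfl⟩; exact hall a
    · simp only [Finset.coe_sort_coe, Nat.card_eq_fintype_card, Fintype.card_coe]
      exact hScard
  have h := Subgroup.card_eq_card_quotient_mul_card_subgroup ψ.ker
  rw [Nat.card_congr (QuotientGroup.quotientKerEquivRange ψ).toEquiv, baseSub_card] at h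
  have h' := Nat.mul_le_mul_right (Nat.card ψ.ker) hrange
  refine le_trans (show 128 ≤ Nat.card ψ.ker by omega) (le_of_eq (Nat.card_congr (Equiv.subtypeEquivRight fun a => ?_)))
  show μ a * a = 1 ↔ μ a = a
  obtain ⟨w, -, hw⟩ := el_surj a
  have hinv : a⁻¹ = a := by rw [← hw]; exact inv_eq_of_mul_eq_one_right (CfsgLib.Fi22Fusion.el_self w)
  rw [mul_eq_one_iff_eq_inv, hinv]

/-- an involution fixes at least 64 members -/
theorem K22_invol_fix {κ' : MulAut E22} (h' : κ' ∈ K22) (h2 : κ' * κ' = 1) (h1 : κ' ≠ 1) :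
    64 ≤ Nat.card {a : E22 // κ' a = a} := by
  classical
  obtain ⟨⟨κ, hκL⟩, rfl⟩ := down_surj κ' h'
  have hκK := (L_one.mp hκL).1
  have hκ2 : κ * κ = 1 := by
    have : (⟨κ, hκL⟩ : L 1) * ⟨κ, hκL⟩ = 1 := by
      refine down_inj (MulEquiv.ext fun b => ?_)
      obtain ⟨a, rfl⟩ := pr_surj b
      rw [down_pr, down_pr]
      show pr (κ (κ a)) = pr a
      rw [← down_pr ⟨κ, hκL⟩ (κ a), ← down_pr ⟨κ, hκL⟩ a]
      exact congrArg (fun f : MulAut E22 => f (pr a)) h2
    exact congrArg Subtype.val this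
  have hκ1 : κ ≠ 1 := fun e => h1 (MulEquiv.ext fun b => by
    obtain ⟨a, rfl⟩ := pr_surj b
    rw [down_pr]
    show pr (κ a) = pr a
    rw [e]; rfl)
  -- the image of the residues is a Sylow subgroup
  let K := CfsgLib.Fi22Fusion.K
  let M := (sylowSub.subgroupOf (Subgroup.normalizer (baseSub : Set Fi23))).map baseSub.normalizerMonoidHom
  have hMle : M ≤ K :=
    Subgroup.map_mono fun x hx => Subgroup.mem_subgroupOf.mpr (CfsgLib.Fi22Syl.sylowSub_le (Subgroup.mem_subgroupOf.mp hx))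
  have hMp : IsPGroup 2 M :=
    ((IsPGroup.of_card (n := 18) sylowSub_card).comap_of_injective _ (Subgroup.subtype_injective _)).map _
  have hKc : Nat.card K = 443520 := CfsgLib.Fi22Fusion.card_K
  have hidx : ¬ 2 ∣ (M.subgroupOf K).index := by
    intro hd
    have hc := Subgroup.card_mul_index (M.subgroupOf K)
    rw [Nat.card_congr (Subgroup.subgroupOfEquivOfLe hMle).toEquiv, hKc] at hc
    obtain ⟨m, hm⟩ := hMp.exists_card_eq
    have hr : ∀ e, rG e ∈ sylowSub := fun e =>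
      pUp_mem (n := 7) (fun k hk => mem_sylowSub.mpr ⟨0, by norm_num, 2 ^ k,
        Nat.pow_lt_pow_right (n := 7) (by norm_num) hk, by rw [aG_zero, one_mul, rG, pUp_two_pow gG hk]⟩) e
    have hnorm : ∀ e, rG e ∈ Subgroup.normalizer (baseSub : Set Fi23) := fun e => by
      rw [Subgroup.mem_normalizer_iff_map_conj_eq]
      refine Subgroup.eq_of_le_of_card_ge ?_ (le_of_eq ?_)
      · rintro - ⟨a, ha, rfl⟩
        exact baseSub_normal (hr e) ha
      · exact Nat.card_congr (baseSub.equivMapOfInjective _ (MulAut.conj (rG e)).injective).toEquiv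
    let φ : Fin 128 → M := fun e =>
      ⟨_, Subgroup.mem_map_of_mem _ (x := ⟨rG e, hnorm e⟩) (Subgroup.mem_subgroupOf.mpr (hr e))⟩
    have hinj : Function.Injective φ := fun e e' h => by
      have key : ∀ u < 2048, act e u = act e' u := fun u hu => by
        refine aG_inj (act_lt _ hu) (act_lt _ hu) ?_
        rw [← rG_conj, ← rG_conj]
        exact congrArg (fun g : MulAut baseSub => ((g (el u) : baseSub) : Fi23)) (congrArg Subtype.val h)
      have hp : packAct e = packAct e' := by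
        unfold packAct
        have hl : ∀ j ∈ List.range 11, act e (2 ^ j) = act e' (2 ^ j) := fun j hj =>
          key _ (show 2 ^ j < 2 ^ 11 from Nat.pow_lt_pow_right (by norm_num) (List.mem_range.mp hj))
        generalize List.range 11 = ls at hl
        induction ls with
        | nil => rfl
        | cons j ls ih =>
          simp only [List.foldr_cons]
          rw [hl j (List.mem_cons_self ..), ih fun m hm => hl m (List.mem_cons_of_mem _ hm)]
      have e1 := Nat.eq_of_beq_eq_true (allBelow_spec act_tab e e.2)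
      have e2 := Nat.eq_of_beq_eq_true (allBelow_spec act_tab e' e'.2)
      rw [hp, e2, nth_eq, nth_eq, List.getD_eq_getElem _ _ (by rw [act_tab_len]; exact e'.2),
        List.getD_eq_getElem _ _ (by rw [act_tab_len]; exact e.2)] at e1
      exact Fin.ext ((List.Nodup.getElem_inj_iff (noDup_nodup act_tab_nodup)).mp e1.symm)
    have h7 : 2 ^ 7 ≤ Nat.card M := by
      have := Nat.card_le_card_of_injective φ hinj
      rw [Nat.card_fin] at this
      exact this
    rw [hm] at hc h7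
    have hm7 : 7 ≤ m := (Nat.pow_le_pow_iff_right (by norm_num)).mp h7
    have : 2 ^ 8 ∣ 443520 := hc ▸ dvd_trans (Nat.pow_dvd_pow 2 (show 8 ≤ m + 1 by omega))
      (by rw [pow_succ]; exact mul_dvd_mul_left _ hd)
    norm_num at this
  have hMp' : IsPGroup 2 (M.subgroupOf K) := hMp.comap_of_injective _ (Subgroup.subtype_injective _)
  have hzp : IsPGroup 2 (Subgroup.zpowers (⟨κ, hκK⟩ : K)) := by
    have ho : orderOf (⟨κ, hκK⟩ : K) = 2 := orderOf_eq_prime (by rw [pow_two]; exact Subtype.ext hκ2)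
      fun e => hκ1 (congrArg Subtype.val e)
    exact IsPGroup.of_card (n := 1) (by rw [Nat.card_zpowers, ho, pow_one])
  obtain ⟨P, hP⟩ := hzp.exists_le_sylow
  obtain ⟨g, hg⟩ := MulAction.exists_smul_eq K P (hMp'.toSylow hidx)
  have hconj : g * ⟨κ, hκK⟩ * g⁻¹ ∈ M.subgroupOf K := by
    have : g * ⟨κ, hκK⟩ * g⁻¹ ∈ ((g • P : Sylow 2 K) : Subgroup K) :=
      Subgroup.mem_map_of_mem (MulAut.conj g).toMonoidHom (hP (Subgroup.mem_zpowers _))
    rwa [hg] at this
  obtain ⟨⟨s, hsN⟩, hs, hsκ⟩ := Subgroup.mem_map.mp (Subgroup.mem_subgroupOf.mp hconj)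
  obtain ⟨v, hv, e, he, rfl⟩ := mem_sylowSub.mp (Subgroup.mem_subgroupOf.mp hs)
  set μ : MulAut baseSub := (g : MulAut baseSub) * κ * (g : MulAut baseSub)⁻¹ with hμ
  have hμa : ∀ u, μ (el u) = el (act e u) := fun u => by
    have := congrArg (fun f : MulAut baseSub => ((f (el u) : baseSub) : Fi23)) hsκ
    refine Subtype.ext (this.symm.trans ?_)
    exact elt_conj v e u
  have hμ2 : ∀ u < 2048, act e (act e u) = u := fun u hu => by
    refine el_inj (act_lt e (act_lt e hu)) hu ?_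
    rw [← hμa, ← hμa]
    have : μ * μ = 1 := by rw [hμ, show (g : MulAut baseSub) * κ * (g : MulAut baseSub)⁻¹ *
      ((g : MulAut baseSub) * κ * (g : MulAut baseSub)⁻¹) = (g : MulAut baseSub) * (κ * κ) * (g : MulAut baseSub)⁻¹ by group,
      hκ2, mul_one, mul_inv_cancel]
    exact congrArg (fun f : MulAut baseSub => f (el u)) this
  obtain ⟨i, hi, hie⟩ : ∃ i < 35, qc i = e := by
    have h := allBelow_spec CfsgLib.Fi22Syl.qKind_ok e he
    unfold CfsgLib.Fi22Syl.qKindOK at h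
    split at h
    · next u _ =>
      simp only [Bool.and_eq_true, Nat.blt_eq, Bool.not_eq_true'] at h
      exact absurd (hμ2 u h.1) (Nat.ne_of_beq_eq_false h.2)
    · next i _ =>
      simp only [Bool.and_eq_true, Nat.blt_eq] at h
      exact ⟨i, h.1, Nat.eq_of_beq_eq_true h.2⟩
    · obtain rfl := Nat.eq_of_beq_eq_true h
      refine absurd ?_ hκ1
      have : μ = 1 := MulEquiv.ext fun a => by
        obtain ⟨u, hu, rfl⟩ := el_surj a
        rw [hμa, act_zero hu]; rfl
      rw [hμ] at this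
      simpa using this
    · simp at h
  have hker := fixed_ge μ hi (fun u => hie.symm ▸ hμa u)
  -- carry it back and down
  let F : Subgroup baseSub :=
    { carrier := {a | κ a = a}
      one_mem' := map_one κ
      mul_mem' := fun {a b} (ha : κ a = a) (hb : κ b = b) => by show κ (a * b) = a * b; rw [map_mul, ha, hb]
      inv_mem' := fun {a} (ha : κ a = a) => by show κ a⁻¹ = a⁻¹; rw [map_inv, ha] }
  have hF : 128 ≤ Nat.card F := by
    refine hker.trans (Nat.card_le_card_of_injective (fun a => (⟨(g : MulAut baseSub)⁻¹ a.1, ?_⟩ : F)) fun a b h => ?_)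
    · have hfix : μ a.1 = a.1 := a.2
      have he : ∀ x, (g : MulAut baseSub)⁻¹ (μ x) = κ ((g : MulAut baseSub)⁻¹ x) := fun x => by
        have e : (g : MulAut baseSub)⁻¹ * μ = κ * (g : MulAut baseSub)⁻¹ := by rw [hμ]; group
        exact congrArg (fun f : MulAut baseSub => f x) e
      exact (he a.1).symm.trans (congrArg (fun x => ((g : MulAut baseSub)⁻¹ : MulAut baseSub) x) hfix)
    · exact Subtype.ext (((g : MulAut baseSub)⁻¹).injective (congrArg Subtype.val h))
  let q : F →* E22 := pr.comp F.subtype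
  have hqk : Nat.card q.ker ≤ 2 := by
    refine (Nat.card_le_card_of_injective (fun a => (⟨a.1.1, ?_⟩ : ({1, el zVec} : Set baseSub))) fun a b h => ?_).trans ?_
    · rcases ker_pr (a := a.1.1) a.2 with e | e
      · exact Or.inl e
      · exact Or.inr e
    · exact Subtype.ext (Subtype.ext (congrArg Subtype.val h :))
    · rw [Nat.card_coe_set_eq]
      exact (Set.ncard_insert_le _ _).trans (by simp)
  have hq : 64 ≤ Nat.card q.range := by
    have h := Subgroup.card_eq_card_quotient_mul_card_subgroup q.ker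
    rw [Nat.card_congr (QuotientGroup.quotientKerEquivRange q).toEquiv] at h
    have := Nat.mul_le_mul_left (Nat.card q.range) hqk
    omega
  refine hq.trans (Nat.card_le_card_of_injective (fun x => (⟨x.1, ?_⟩ : {a : E22 // down ⟨κ, hκL⟩ a = a})) fun a b h => ?_)
  · obtain ⟨⟨a, ha⟩, e⟩ := x.2
    rw [← e]
    show down ⟨κ, hκL⟩ (pr a) = pr a
    rw [down_pr]
    exact congrArg pr ha
  · exact Subtype.ext (congrArg Subtype.val h :)

end CfsgLib.USixFusion
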