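import Cfsg.Agent.Lib.USixFusion.Arith
import Cfsg.Agent.Lib.USixFusion.Norm
import Cfsg.Agent.Lib.USixFusion.Invol
import Cfsg.Agent.Lib.Fi22Fusion.Main

/-!
The Thompson subgroup of a double cover of U6(2) which is a centralizer, and the conjugates of the involution in it.
-/

set_option autoImplicit false
set_option linter.unusedSectionVars false
set_option maxRecDepth 10000

namespace CfsgLib.USixFusion

open CfsgLib.CosetEnum CfsgLib.Fi23Syl Cfsg.Spor
open CfsgLib.Fi22Syl (zVec)
open CfsgLib.Fi22Fusion (el nAct elem_map elem_comap card_step z_lt)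
open CfsgLib.Fi22Pres (gen subA)

theorem E22_le : E22 ≤ subA := fun x hx =>
  mem_of_comm (E22_comm hx (eu_one ▸ (eu 1).2 : gen 0 ∈ E22))

theorem E22_elem : Cfsg.IsElementaryAbelian 2 E22 := CfsgLib.Fi22Syl.img_base_elem

/-- in a 2-subgroup there is at most one elementary abelian subgroup of order 2^10 -/
theorem elem_unique {S B B' : Subgroup Fi22} (hS : IsPGroup 2 S) (hB : B ≤ S) (hBe : Cfsg.IsElementaryAbelian 2 B)
    (hB' : B' ≤ S) (hBe' : Cfsg.IsElementaryAbelian 2 B') :
    Nat.card B ≤ 1024 ∧ (Nat.card B = 1024 → Nat.card B' = 1024 → B = B') := by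
  haveI : Finite Fi22 := Fi22Pres.finite_and_card.1
  haveI : Fact (Nat.Prime 2) := ⟨Nat.prime_two⟩
  obtain ⟨T, hT⟩ := hS.exists_le_sylow
  obtain ⟨g, hg⟩ := MulAction.exists_smul_eq Fi22 T CfsgLib.Fi22Syl.sylowTwo22
  have hle : ∀ {A : Subgroup Fi22}, A ≤ S → A.map (MulAut.conj g).toMonoidHom ≤ CfsgLib.Fi22Syl.img sylowSub := by
    intro A hA
    show _ ≤ (CfsgLib.Fi22Syl.sylowTwo22 : Subgroup Fi22)
    rw [← hg]
    rintro - ⟨a, ha, rfl⟩
    exact Subgroup.mem_map_of_mem (MulAut.conj g).toMonoidHom (hT (hA ha))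
  have hc : ∀ A : Subgroup Fi22, Nat.card (A.map (MulAut.conj g).toMonoidHom) = Nat.card A := fun A =>
    (Nat.card_congr (A.equivMapOfInjective _ (MulAut.conj g).injective).toEquiv).symm
  obtain ⟨a1, a2⟩ := CfsgLib.Fi22Syl.img_elem_le (hle hB) (elem_map _ hBe)
  obtain ⟨-, b2⟩ := CfsgLib.Fi22Syl.img_elem_le (hle hB') (elem_map _ hBe')
  rw [hc] at a1 a2 b2
  exact ⟨a1, fun h h' => Subgroup.map_injective (f := (MulAut.conj g).toMonoidHom) (MulAut.conj g).injective
    ((a2 h).trans (b2 h').symm)⟩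

/-- elementary abelian subgroups of order 2^10 of the centralizer are conjugate -/
theorem elem_conj {B : Subgroup subA} (hBe : Cfsg.IsElementaryAbelian 2 B) (hBc : Nat.card B = 1024) :
    ∃ c : subA, B.map (MulAut.conj c).toMonoidHom = E22.subgroupOf subA := by
  haveI : Finite Fi22 := Fi22Pres.finite_and_card.1
  haveI : Fact (Nat.Prime 2) := ⟨Nat.prime_two⟩
  set E := E22.subgroupOf subA with hE
  have hEc : Nat.card E = 1024 := (Nat.card_congr (Subgroup.subgroupOfEquivOfLe E22_le).toEquiv).trans E22_card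
  have hEe : Cfsg.IsElementaryAbelian 2 E := elem_comap subA.subtype_injective E22_elem
  obtain ⟨T, hT⟩ := (IsPGroup.of_card (n := 10) (hBc.trans (by norm_num)) : IsPGroup 2 B).exists_le_sylow
  obtain ⟨T', hT'⟩ := (IsPGroup.of_card (n := 10) (hEc.trans (by norm_num)) : IsPGroup 2 E).exists_le_sylow
  obtain ⟨c, hc⟩ := MulAction.exists_smul_eq subA T T'
  refine ⟨c, Subgroup.map_injective subA.subtype_injective ?_⟩
  have h1 : B.map (MulAut.conj c).toMonoidHom ≤ T' := by
    rw [← hc]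
    rintro - ⟨b, hb, rfl⟩
    exact Subgroup.mem_map_of_mem (MulAut.conj c).toMonoidHom (hT hb)
  have hcard : ∀ A : Subgroup subA, Nat.card (A.map subA.subtype) = Nat.card A := fun A =>
    (Nat.card_congr (A.equivMapOfInjective _ subA.subtype_injective).toEquiv).symm
  refine (elem_unique (T'.2.map subA.subtype) (Subgroup.map_mono h1) (elem_map _ (elem_map _ hBe))
    (Subgroup.map_mono hT') (elem_map _ hEe)).2 ?_ ((hcard E).trans hEc)
  rw [hcard, ← hBc]
  exact (Nat.card_congr (B.equivMapOfInjective _ (MulAut.conj c).injective).toEquiv).symm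

variable {G : Type*} [Group G]

/-- transported to a centralizer -/
theorem elem_conj_in [Finite G] (ι : subA →* G) (hι : Function.Injective ι) {B : Subgroup G} (hB : B ≤ ι.range)
    (hBe : Cfsg.IsElementaryAbelian 2 B) (hBc : Nat.card B = 1024) :
    ∃ c ∈ ι.range, B.map (MulAut.conj c).toMonoidHom = (E22.subgroupOf subA).map ι := by
  have hm : (B.comap ι).map ι = B := Subgroup.map_comap_eq_self hB
  obtain ⟨c, hc⟩ := elem_conj (elem_comap hι hBe) (by
    rw [← hBc]
    conv_rhs => rw [← hm]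
    exact Nat.card_congr ((B.comap ι).equivMapOfInjective ι hι).toEquiv)
  refine ⟨ι c, ⟨c, rfl⟩, ?_⟩
  rw [← hc, ← hm, Subgroup.map_map, Subgroup.comap_map_eq_self_of_injective hι, Subgroup.map_map]
  congr 1
  refine MonoidHom.ext fun a => ?_
  show ι c * ι a * (ι c)⁻¹ = ι (c * a * c⁻¹)
  rw [map_mul, map_mul, map_inv]

theorem max_in [Finite G] (ι : subA →* G) (hι : Function.Injective ι) {S B B' : Subgroup G} (hS : IsPGroup 2 S)
    (hSr : S ≤ ι.range) (hB : B ≤ S) (hBe : Cfsg.IsElementaryAbelian 2 B) (hB' : B' ≤ S)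
    (hBe' : Cfsg.IsElementaryAbelian 2 B') :
    Nat.card B ≤ 1024 ∧ (Nat.card B = 1024 → Nat.card B' = 1024 → B = B') := by
  have hc : ∀ {A : Subgroup G}, A ≤ S → Nat.card ((A.comap ι).map subA.subtype) = Nat.card A := fun {A} hA => by
    rw [← Nat.card_congr ((A.comap ι).equivMapOfInjective _ subA.subtype_injective).toEquiv,
      Nat.card_congr ((A.comap ι).equivMapOfInjective ι hι).toEquiv, Subgroup.map_comap_eq_self (hA.trans hSr)]
  have h := elem_unique ((hS.comap_of_injective ι hι).map subA.subtype)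
    (B := (B.comap ι).map subA.subtype) (B' := (B'.comap ι).map subA.subtype)
    (Subgroup.map_mono (Subgroup.comap_mono hB)) (elem_map _ (elem_comap hι hBe))
    (Subgroup.map_mono (Subgroup.comap_mono hB')) (elem_map _ (elem_comap hι hBe'))
  rw [hc hB, hc hB'] at h
  exact ⟨h.1, fun a b => by
    rw [← Subgroup.map_comap_eq_self (hB.trans hSr), Subgroup.map_injective subA.subtype_injective (h.2 a b),
      Subgroup.map_comap_eq_self (hB'.trans hSr)]⟩

/-- the unique largest elementary abelian subgroup generates the Thompson subgroup -/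
theorem thompson_of_max [Finite G] {C : Subgroup G} {S : Subgroup C} {A : Subgroup G} (hAS : A ≤ S.map C.subtype)
    (hAe : Cfsg.IsElementaryAbelian 2 A) (hmax : ∀ B : Subgroup G, B ≤ S.map C.subtype →
      Cfsg.IsElementaryAbelian 2 B → Nat.card B ≤ Nat.card A ∧ (Nat.card B = Nat.card A → B = A)) :
    (Cfsg.thompsonSubgroupOf 2 S).map C.subtype = A := by
  have hsub : ∀ B : Subgroup S, Cfsg.IsElementaryAbelian 2 B →
      Nat.card B ≤ Nat.card A ∧ (Nat.card B = Nat.card A → (B.map S.subtype).map C.subtype = A) := by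
    intro B hB
    have hc : Nat.card ((B.map S.subtype).map C.subtype) = Nat.card B := by
      rw [← Nat.card_congr ((B.map S.subtype).equivMapOfInjective _ C.subtype_injective).toEquiv,
        ← Nat.card_congr (B.equivMapOfInjective _ S.subtype_injective).toEquiv]
    have := hmax _ (Subgroup.map_mono (Subgroup.map_subtype_le B)) (elem_map _ (elem_map _ hB))
    rwa [hc] at this
  let A' : Subgroup S := (A.comap C.subtype).comap S.subtype
  have hA'1 : Cfsg.IsElementaryAbelian 2 A' :=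
    elem_comap S.subtype_injective (elem_comap C.subtype_injective hAe)
  have hA'2 : (A'.map S.subtype).map C.subtype = A := by
    refine le_antisymm ?_ fun x hx => ?_
    · rintro - ⟨-, ⟨a, ha, rfl⟩, rfl⟩
      exact ha
    · obtain ⟨y, hy, rfl⟩ := Subgroup.mem_map.mp (hAS hx)
      exact Subgroup.mem_map_of_mem _ (Subgroup.mem_map.mpr ⟨⟨y, hy⟩, hx, rfl⟩)
  have hA'c : Nat.card A' = Nat.card A := by
    rw [← hA'2, ← Nat.card_congr ((A'.map S.subtype).equivMapOfInjective _ C.subtype_injective).toEquiv,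
      ← Nat.card_congr (A'.equivMapOfInjective _ S.subtype_injective).toEquiv]
  have hJ : Cfsg.thompsonSubgroup 2 S = A' := by
    refine le_antisymm (sSup_le fun B hB => ?_) (le_sSup ⟨hA'1, fun B hB => hA'c ▸ (hsub B hB).1⟩)
    have h := (hsub B hB.1).2 (le_antisymm (hsub B hB.1).1 (hA'c ▸ hB.2 A' hA'1))
    intro x hx
    show ((x : C) : G) ∈ A
    rw [← h]
    exact Subgroup.mem_map_of_mem _ (Subgroup.mem_map_of_mem _ hx)
  rw [Cfsg.thompsonSubgroupOf, hJ]
  exact hA'2

theorem qn_cases (v : ℕ) : qn v = v ∨ qn v = v ^^^ zVec := by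
  rw [qn]; cases Nat.ble v (v ^^^ zVec)
  · exact Or.inr rfl
  · exact Or.inl rfl

theorem eu_z (v : ℕ) : eu (v ^^^ zVec) = eu v := by
  rw [eu_xor, show eu zVec = 1 from pr_z, mul_one]

theorem eu_qn (v : ℕ) : eu (qn v) = eu v := by
  rcases qn_cases v with h | h <;> rw [h]
  rw [eu_z]

theorem qn_lt {v : ℕ} (hv : v < 2048) : qn v < 2048 := by
  rcases qn_cases v with h | h <;> rw [h]
  · exact hv
  · exact Nat.xor_lt_two_pow (n := 11) hv z_lt

theorem xor_self_cancel (v : ℕ) : v ^^^ zVec ^^^ zVec = v := by rw [Nat.xor_assoc, Nat.xor_self, Nat.xor_zero]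

theorem qn_flip (v : ℕ) : qn (v ^^^ zVec) = qn v := by
  unfold qn
  rw [xor_self_cancel]
  rcases h : Nat.ble v (v ^^^ zVec) <;> rcases h' : Nat.ble (v ^^^ zVec) v <;> simp only [cond_true, cond_false]
  · have h1 : ¬ v ≤ v ^^^ zVec := fun e => by rw [Nat.ble_eq.mpr e] at h; simp at h
    have h2 : ¬ v ^^^ zVec ≤ v := fun e => by rw [Nat.ble_eq.mpr e] at h'; simp at h'
    omega
  · rw [Nat.ble_eq] at h h'
    omega

theorem qn_qn (v : ℕ) : qn (qn v) = qn v := by
  rcases qn_cases v with h | h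
  · rw [h, h]
  · nth_rw 1 [h]
    exact qn_flip v

/-- reached from the representative of an orbit -/
def Reach22 (c v : ℕ) : Prop := ∃ κ ∈ K22, κ (eu (nth uReps c 0)) = eu v

theorem utree_reach : ∀ (ps : List (ℕ × ℕ × ℕ × ℕ)) (ms : List ℕ), uTreeOK ms ps = true →
    (∀ c v, (ms.getD c 0).testBit v = true → Reach22 c v) →
    ∀ c v, (uMasks.getD c 0).testBit v = true → Reach22 c v
  | [], ms, h, hms => by
    simp only [uTreeOK, decide_eq_true_eq] at h
    subst h; exact hms
  | (v, k, u, c) :: rest, ms, h, hms => by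
    simp only [uTreeOK, Bool.and_eq_true, Nat.blt_eq, Nat.beq_eq] at h
    obtain ⟨⟨⟨⟨hbit, hk⟩, hv⟩, -⟩, hrest⟩ := h
    refine utree_reach rest _ hrest fun c' v' h' => ?_
    by_cases hc : c' = c
    · subst hc
      by_cases hlen : c' < ms.length
      · rw [List.getD_eq_getElem _ _ (by simpa using hlen), List.getElem_set_self, Nat.testBit_or,
          Bool.or_eq_true, Nat.testBit_two_pow, decide_eq_true_eq] at h'
        rcases h' with h' | h'
        · exact hms _ _ h'
        · obtain ⟨κ, hκ, e⟩ := hms _ _ hbit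
          obtain ⟨μ, hμ, hμv⟩ := K22_word hk
          subst h'
          refine ⟨μ * κ, mul_mem hμ hκ, ?_⟩
          show μ (κ _) = _
          rw [e, hμv, ← hv, eu_qn]
      · rw [List.set_eq_of_length_le (by omega)] at h'
        exact hms _ _ h'
    · refine hms _ _ ?_
      rwa [List.getD_eq_getElem?_getD, List.getElem?_set_ne (fun e => hc e.symm), ← List.getD_eq_getElem?_getD] at h'

theorem mask_reach {c v : ℕ} (h : (nth uMasks c 0).testBit v = true) : Reach22 c v := by
  rw [nth_eq] at h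
  refine utree_reach _ _ uTree_ok (fun c v h => ?_) c v h
  by_cases hc : c < uReps.length
  · rw [List.getD_eq_getElem _ _ (by simpa using hc), List.getElem_map, Nat.testBit_two_pow, decide_eq_true_eq] at h
    refine ⟨1, one_mem _, ?_⟩
    rw [← h, nth_eq, List.getD_eq_getElem _ _ hc]
    rfl
  · rw [List.getD_eq_default _ _ (by simpa using hc)] at h
    simp at h

theorem pair_count (P : E22 → Prop) [DecidablePred P] :
    ((Finset.range 2048).filter fun v => P (eu v)).card = 2 * Nat.card {a : E22 // P a} := by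
  classical
  haveI : Finite Fi22 := Fi22Pres.finite_and_card.1
  haveI := Fintype.ofFinite E22
  rw [Nat.card_eq_fintype_card, Fintype.card_subtype,
    Finset.card_eq_sum_card_fiberwise (f := eu) (t := Finset.univ.filter P) (fun v hv => by
      simp only [Finset.coe_filter, Set.mem_ofPred_eq] at hv ⊢
      exact ⟨Finset.mem_univ _, hv.2⟩), mul_comm]
  refine Finset.sum_const_nat fun a ha => ?_
  obtain ⟨v, hv, rfl⟩ := eu_surj a
  have hne : v ≠ v ^^^ zVec := fun e => by
    have : v ^^^ v = v ^^^ (v ^^^ zVec) := congrArg (v ^^^ ·) e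
    rw [Nat.xor_self, ← Nat.xor_assoc, Nat.xor_self, Nat.zero_xor] at this
    exact absurd this (by decide)
  rw [show ((Finset.range 2048).filter fun w => P (eu w)).filter (fun w => eu w = eu v) = {v, v ^^^ zVec} from ?_,
    Finset.card_pair hne]
  ext w
  simp only [Finset.mem_filter, Finset.mem_range, Finset.mem_insert, Finset.mem_singleton]
  constructor
  · rintro ⟨⟨hw, -⟩, e⟩
    exact eu_inj hw hv e
  · have hP := (Finset.mem_filter.mp ha).2
    rintro (rfl | rfl)
    · exact ⟨⟨hv, hP⟩, rfl⟩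
    · exact ⟨⟨Nat.xor_lt_two_pow (n := 11) hv z_lt, (eu_z v).symm ▸ hP⟩, eu_z v⟩

theorem fusion [Finite G] {d : G} (hd : orderOf d = 2) {C : Subgroup G} (hC : ∀ c, c ∈ C ↔ Commute c d)
    (ι : subA →* G) (hι : Function.Injective ι) (hr : ι.range = C)
    (hz : ∀ x : subA, (x : Fi22) = gen 0 → ι x = d) (hnwc : ∃ g : G, g * d * g⁻¹ ∈ C ∧ g * d * g⁻¹ ≠ d) :
    ∀ A : Subgroup G, A = (E22.subgroupOf subA).map ι →
      Cfsg.IsElementaryAbelian 2 A ∧ Nat.card A = 2 ^ 10 ∧ Set.ncard {x : G | x ∈ A ∧ IsConj d x} = 22 ∧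
        ∀ x ∈ A, ∀ y ∈ A, IsConj d x → IsConj d y → ∃ n ∈ Subgroup.normalizer (A : Set G), n * x * n⁻¹ = y := by
  classical
  haveI : Finite Fi22 := Fi22Pres.finite_and_card.1
  intro A hA
  let j : E22 →* G := ι.comp (Subgroup.inclusion E22_le)
  have hj : Function.Injective j := hι.comp (Subgroup.inclusion_injective _)
  have hjr : j.range = A := by
    rw [hA, MonoidHom.range_comp]
    congr 1
    ext x
    exact ⟨fun ⟨a, ha⟩ => ha ▸ a.2, fun hx => ⟨⟨x, hx⟩, rfl⟩⟩
  have hjz : j (eu 1) = d := hz _ eu_one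
  have hAe : Cfsg.IsElementaryAbelian 2 A := hA ▸ elem_map ι (elem_comap subA.subtype_injective E22_elem)
  have hAc : Nat.card A = 1024 := by
    rw [← hjr, ← Nat.card_congr (MonoidHom.ofInjective hj).toEquiv, E22_card]
  have hjmem : ∀ a, j a ∈ A := fun a => hjr ▸ ⟨a, rfl⟩
  -- a conjugate of d in A is a conjugate under the normalizer
  have hfus : ∀ x ∈ A, IsConj d x → ∃ n ∈ Subgroup.normalizer (A : Set G), n * d * n⁻¹ = x := by
    intro x hx hconj
    obtain ⟨g, rfl⟩ := isConj_iff.mp hconj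
    have hle : A.map (MulAut.conj g⁻¹).toMonoidHom ≤ ι.range := by
      rw [hr]
      rintro - ⟨a, ha, rfl⟩
      refine (hC _).mpr ?_
      have hc : a * (g * d * g⁻¹) = g * d * g⁻¹ * a :=
        congrArg Subtype.val (hAe.1.is_comm.comm (⟨a, ha⟩ : A) ⟨_, hx⟩)
      show g⁻¹ * a * g⁻¹⁻¹ * d = d * (g⁻¹ * a * g⁻¹⁻¹)
      calc g⁻¹ * a * g⁻¹⁻¹ * d = g⁻¹ * (a * (g * d * g⁻¹)) * g := by group
        _ = g⁻¹ * (g * d * g⁻¹ * a) * g := by rw [hc]
        _ = d * (g⁻¹ * a * g⁻¹⁻¹) := by group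
    obtain ⟨c, hc, e⟩ := elem_conj_in ι hι hle (elem_map _ hAe) (by
      rw [← hAc]
      exact (Nat.card_congr (A.equivMapOfInjective _ (MulAut.conj g⁻¹).injective).toEquiv).symm)
    rw [hr] at hc
    rw [← hA, Subgroup.map_map] at e
    refine ⟨g * c⁻¹, ?_, ?_⟩
    · rw [show g * c⁻¹ = (c * g⁻¹)⁻¹ by group]
      refine inv_mem ?_
      rw [Subgroup.mem_normalizer_iff_map_conj_eq]
      convert e using 2
      refine MonoidHom.ext fun a => ?_
      show c * g⁻¹ * a * (c * g⁻¹)⁻¹ = c * (g⁻¹ * a * g⁻¹⁻¹) * c⁻¹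
      group
    · rw [show g * c⁻¹ * d * (g * c⁻¹)⁻¹ = g * (c⁻¹ * d * c) * g⁻¹ by group, mul_assoc c⁻¹,
        ← ((hC c).mp hc).eq, inv_mul_cancel_left]
  have htrans : ∀ x ∈ A, ∀ y ∈ A, IsConj d x → IsConj d y →
      ∃ n ∈ Subgroup.normalizer (A : Set G), n * x * n⁻¹ = y := by
    intro x hx y hy h1 h2
    obtain ⟨n, hn, rfl⟩ := hfus x hx h1
    obtain ⟨m, hm, rfl⟩ := hfus y hy h2
    exact ⟨m * n⁻¹, mul_mem hm (inv_mem hn), by group⟩
  refine ⟨hAe, hAc.trans (by norm_num), ?_, htrans⟩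
  -- the automorphisms induced by the normalizer
  let e : E22 ≃* A := (MonoidHom.ofInjective hj).trans (MulEquiv.subgroupCongr hjr)
  let ρ : Subgroup.normalizer (A : Set G) →* MulAut E22 :=
    (MulAut.congr e.symm).toMonoidHom.comp A.normalizerMonoidHom
  have hρ : ∀ n (a : E22), j (ρ n a) = (n : G) * j a * (n : G)⁻¹ := by
    intro n a
    show ((e (e.symm (A.normalizerMonoidHom n (e a))) : A) : G) = _
    rw [e.apply_symm_apply]
    rfl
  set H := ρ.range with hH
  have hK : H ⊓ MulAction.stabilizer (MulAut E22) (eu 1) = K22 := by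
    ext κ
    constructor
    · rintro ⟨⟨⟨n, hn⟩, rfl⟩, hfix⟩
      have hcd : Commute n d := by
        have := hρ ⟨n, hn⟩ (eu 1)
        rw [show ρ ⟨n, hn⟩ (eu 1) = eu 1 from hfix, hjz] at this
        exact (mul_inv_eq_iff_eq_mul.mp this.symm)
      obtain ⟨m, rfl⟩ := (hr.symm ▸ (hC n).mpr hcd : n ∈ ι.range)
      have hm : ∀ a : E22, ((ρ ⟨ι m, hn⟩ a : E22) : Fi22) = (m : Fi22) * a * (m : Fi22)⁻¹ := by
        intro a
        have h := hρ ⟨ι m, hn⟩ a
        rw [show j a = ι ⟨a, E22_le a.2⟩ from rfl, ← map_inv, ← map_mul, ← map_mul] at h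
        exact congrArg Subtype.val (hι h)
      obtain ⟨κ', hκ', h'⟩ := K22_mk m.2 fun a => hm a ▸ (ρ ⟨ι m, hn⟩ a).2
      convert hκ'
      exact MulEquiv.ext fun a => Subtype.ext ((hm a).trans (h' a).symm)
    · intro hκ
      refine ⟨?_, K22_fix hκ⟩
      obtain ⟨n, hn, h⟩ := K22_spec hκ
      have hN : ι ⟨n, hn⟩ ∈ Subgroup.normalizer (A : Set G) := by
        rw [Subgroup.mem_normalizer_iff_map_conj_eq]
        refine Subgroup.eq_of_le_of_card_ge ?_ (le_of_eq ?_)
        · rw [← hjr]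
          rintro - ⟨-, ⟨a, rfl⟩, rfl⟩
          refine ⟨κ a, ?_⟩
          show ι _ = ι ⟨n, hn⟩ * ι _ * (ι ⟨n, hn⟩)⁻¹
          rw [← map_inv, ← map_mul, ← map_mul]
          exact congrArg ι (Subtype.ext (h a))
        · exact Nat.card_congr (A.equivMapOfInjective _ (MulAut.conj _).injective).toEquiv
      refine ⟨⟨_, hN⟩, MulEquiv.ext fun a => hj ?_⟩
      rw [hρ]
      show ι ⟨n, hn⟩ * ι _ * (ι ⟨n, hn⟩)⁻¹ = ι _
      rw [← map_inv, ← map_mul, ← map_mul]
      exact congrArg ι (Subtype.ext (h a).symm)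
  -- the conjugates of d
  let X : Set E22 := {a | IsConj d (j a)}
  have hzX : eu 1 ∈ X := (hjz ▸ IsConj.refl d : IsConj d (j (eu 1)))
  have horb : MulAction.orbit H (eu 1) = X := by
    ext a
    constructor
    · rintro ⟨⟨_, n, rfl⟩, rfl⟩
      show IsConj d (j (ρ n (eu 1)))
      rw [hρ, hjz]
      exact isConj_iff.mpr ⟨n, rfl⟩
    · intro hconj
      obtain ⟨n, hn, en⟩ := hfus _ (hjmem _) hconj
      refine ⟨⟨_, ⟨n, hn⟩, rfl⟩, hj ?_⟩
      show j (ρ ⟨n, hn⟩ (eu 1)) = _
      rw [hρ, hjz, en]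
  have hcardH : Nat.card H = Nat.card X * 20160 := by
    rw [card_step H (eu 1), hK, card_K22, horb]
  have hsmul : ∀ κ ∈ H, ∀ a, (κ a ∈ X ↔ a ∈ X) := by
    rintro κ ⟨n, rfl⟩ a
    have hc : IsConj (j a) (j (ρ n a)) := isConj_iff.mpr ⟨n, (hρ n a).symm⟩
    exact ⟨fun h => (show IsConj d _ from h).trans hc.symm, fun h => (show IsConj d _ from h).trans hc⟩
  have hzero : (1 : E22) ∉ X := by
    intro h
    change IsConj d (j 1) at h
    rw [map_one, isConj_one_left] at h
    rw [h, orderOf_one] at hd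
    norm_num at hd
  -- the union of orbits
  obtain ⟨m, hm, hbit⟩ : ∃ m < 32, ∀ i < 5, (m.testBit i = true ↔ eu (nth uReps (i + 1) 0) ∈ X) := by
    have key : ∀ b : Fin 5 → Bool, ∃ m : Fin 32, ∀ i : Fin 5, (m : ℕ).testBit i = b i := by decide +kernel
    obtain ⟨m, hm⟩ := key fun i => decide (eu (nth uReps (i.1 + 1) 0) ∈ X)
    exact ⟨m, m.2, fun i hi => by rw [hm ⟨i, hi⟩]; simp⟩
  have hreach : ∀ c v, (nth uMasks c 0).testBit v = true → (eu v ∈ X ↔ eu (nth uReps c 0) ∈ X) := by
    intro c v h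
    obtain ⟨κ, hκ, e⟩ := mask_reach h
    rw [← e]
    exact hsmul κ (hK ▸ hκ : κ ∈ H ⊓ _).1 _
  have hXm : ∀ v < 2048, (eu v ∈ X ↔ uMem m v = true) := by
    intro v hv
    rw [uMem, Bool.or_eq_true, List.any_eq_true, ← eu_qn v]
    constructor
    · intro hX
      have h := allBelow_spec uCover v hv
      rw [Bool.or_eq_true, List.any_eq_true] at h
      rcases h with h | ⟨c, hc, hbv⟩
      · rw [Nat.eq_of_beq_eq_true h] at hX
        exact absurd (show (1 : E22) ∈ X by
          rwa [show eu 0 = 1 from by rw [eu, show el 0 = 1 from Subtype.ext aG_zero, map_one]] at hX) hzero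
      rw [List.mem_range] at hc
      rcases Nat.eq_zero_or_pos c with rfl | hpos
      · exact Or.inl hbv
      · obtain ⟨i, rfl⟩ : ∃ i, c = i + 1 := ⟨c - 1, by omega⟩
        refine Or.inr ⟨i, List.mem_range.mpr (by omega), ?_⟩
        rw [Bool.and_eq_true]
        exact ⟨(hbit i (by omega)).mpr ((hreach _ _ hbv).mp hX), hbv⟩
    · rintro (hb | ⟨i, hi, hb⟩)
      · exact (hreach 0 _ hb).mpr (uReps_ok.2.symm ▸ hzX)
      · rw [Bool.and_eq_true] at hb
        rw [List.mem_range] at hi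
        exact (hreach _ _ hb.2).mpr ((hbit i hi).mp hb.1)
  have hsize : Nat.card X = uSize m := by
    rw [uSize, ← List.toFinset_card_of_nodup (List.nodup_range.filter _), ← Fintype.card_coe,
      ← Nat.card_eq_fintype_card]
    symm
    refine Nat.card_eq_of_bijective (fun v => (⟨eu v.1, ?_⟩ : X)) ⟨fun a b h => ?_, fun a => ?_⟩
    · have hv := v.2
      simp only [List.mem_toFinset, List.mem_filter, List.mem_range, Bool.and_eq_true] at hv
      exact (hXm _ hv.1).mpr hv.2.2
    · have ha := a.2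
      have hb := b.2
      simp only [List.mem_toFinset, List.mem_filter, List.mem_range, Bool.and_eq_true, Nat.beq_eq] at ha hb
      refine Subtype.ext ?_
      rcases eu_inj ha.1 hb.1 (congrArg Subtype.val h :) with e | e
      · exact e
      · rw [← ha.2.1, e, qn_flip, hb.2.1]
    · obtain ⟨v, hv, ev⟩ := eu_surj a.1
      refine ⟨⟨qn v, ?_⟩, Subtype.ext ((eu_qn v).trans ev)⟩
      simp only [List.mem_toFinset, List.mem_filter, List.mem_range, Bool.and_eq_true, Nat.beq_eq]
      exact ⟨qn_lt hv, qn_qn v, (hXm _ (qn_lt hv)).mp (by rw [eu_qn, ev]; exact a.2)⟩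
  have hcnt : ∀ r < 2048, uCnt m r = 2 * Nat.card {a : E22 // a ∈ X ∧ a * eu r ∈ X} := by
    intro r hr
    rw [← pair_count, uCnt, ← List.toFinset_card_of_nodup (List.nodup_range.filter _)]
    congr 1
    ext y
    simp only [Finset.mem_filter, Finset.mem_range, List.mem_toFinset, List.mem_filter, List.mem_range, Bool.and_eq_true]
    refine and_congr_right fun hy => and_congr (hXm y hy).symm ?_
    rw [← eu_xor]
    exact (hXm _ (Nat.xor_lt_two_pow (n := 11) hy hr)).symm
  -- every member sees the same number of pairs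
  have hinv : ∀ r < 2048, eu r ∈ X → uCnt m r = uCnt m 1 := by
    intro r hr hX
    obtain ⟨⟨κ, hκ⟩, e⟩ := (horb.symm ▸ hX : eu r ∈ MulAction.orbit H (eu 1))
    replace e : κ (eu 1) = eu r := e
    rw [hcnt r hr, hcnt 1 (by norm_num)]
    congr 1
    refine (Nat.card_congr (κ.toEquiv.subtypeEquiv fun a => ?_)).symm
    show a ∈ X ∧ a * eu 1 ∈ X ↔ κ a ∈ X ∧ κ a * eu r ∈ X
    rw [← e, ← map_mul, hsmul κ hκ, hsmul κ hκ]
  -- there is a conjugate of d in A besides d
  have hne : Nat.card X ≠ 1 := by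
    intro h1
    obtain ⟨g, hgC, hgne⟩ := hnwc
    obtain ⟨x, hx⟩ := (hr.symm ▸ hgC : g * d * g⁻¹ ∈ ι.range)
    have hd2 : d * d = 1 := by rw [← pow_two, ← hd, pow_orderOf_eq_one]
    obtain ⟨u, hu⟩ := invol_into (x := x) (hι (by
      rw [map_mul, hx, map_one, show g * d * g⁻¹ * (g * d * g⁻¹) = g * (d * d) * g⁻¹ by group, hd2, mul_one,
        mul_inv_cancel]))
    obtain ⟨a, ea⟩ : ∃ a : E22, a = ⟨_, hu⟩ := ⟨_, rfl⟩
    have hja : j a = ι (u * x * u⁻¹) := by rw [ea]; rfl
    have hX : a ∈ X := by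
      show IsConj d (j a)
      rw [hja, map_mul, map_mul, map_inv, hx]
      exact (isConj_iff.mpr ⟨g, rfl⟩).trans (isConj_iff.mpr ⟨ι u, rfl⟩)
    have haz : a ≠ eu 1 := by
      intro h
      rw [h, hjz, map_mul, map_mul, map_inv, hx] at hja
      refine hgne ?_
      have hcomm : Commute (ι u) d := (hC _).mp (hr ▸ ⟨u, rfl⟩)
      rw [show g * d * g⁻¹ = (ι u)⁻¹ * (ι u * (g * d * g⁻¹) * (ι u)⁻¹) * ι u by group, ← hja, mul_assoc, ← hcomm.eq,
        inv_mul_cancel_left]
    obtain ⟨b, hall⟩ := Nat.card_eq_one_iff_exists.mp h1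
    exact haz (congrArg Subtype.val ((hall ⟨a, hX⟩).trans (hall ⟨eu 1, hzX⟩).symm))
  have hopt := allBelow_spec uOpts_ok m hm
  rw [uOptOK, Bool.or_eq_true, CfsgLib.Fi22Fusion.memB_iff, List.any_eq_true] at hopt
  have hrep : ∀ c, nth uReps c 0 < 2048 := fun c => by
    rw [nth_eq]
    by_cases h : c < uReps.length
    · rw [List.getD_eq_getElem _ _ h]
      have h' := uReps_ok.1
      simp only [List.all_eq_true, Nat.blt_eq] at h'
      exact h' _ (List.getElem_mem h)
    · rw [List.getD_eq_default _ _ (by omega)]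
      norm_num
  have hlist : m ∈ [0, 1, 2, 31] := by
    refine hopt.resolve_right ?_
    rintro ⟨i, hi, hh⟩
    rw [Bool.and_eq_true, Bool.not_eq_true'] at hh
    rw [List.mem_range] at hi
    refine Nat.ne_of_beq_eq_false hh.2 ?_
    rw [uReps_ok.2]
    exact hinv _ (hrep _) ((hbit i hi).mp hh.1)
  have hsz := uSizes_ok
  simp only [List.map_cons, List.map_nil, List.cons.injEq, and_true] at hsz
  obtain ⟨s0, s1, s2, s31⟩ := hsz
  have hfinal : Nat.card X = 22 := by
    rw [hsize] at hne ⊢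
    simp only [List.mem_cons, List.not_mem_nil, or_false] at hlist
    rcases hlist with rfl | rfl | rfl | rfl
    · exact absurd s0 hne
    · exact s1
    · exact s2
    · exfalso
      rw [hsize, s31] at hcardH
      -- the group would be transitive on the nonidentity elements
      have hXall : ∀ a : E22, a ≠ 1 → a ∈ X := by
        intro a ha
        by_contra hn
        have hXc : Nat.card X = 1023 := hsize.trans s31
        have h2 : (insert a X).ncard = 1024 := by
          rw [Set.ncard_insert_of_notMem hn, ← Nat.card_coe_set_eq, hXc]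
        have hn1 : (1 : E22) ∉ insert a X := by
          rintro (h | h)
          · exact ha h.symm
          · exact hzero h
        have := Set.ncard_le_ncard (Set.subset_univ (insert (1 : E22) (insert a X)))
        rw [Set.ncard_insert_of_notMem hn1, h2, Set.ncard_univ, E22_card] at this
        omega
      letI : CommGroup E22 :=
        { (inferInstance : Group E22) with mul_comm := fun a b => Subtype.ext (E22_comm a.2 b.2) }
      letI : MulDistribMulAction H E22 := MulDistribMulAction.compHom E22 H.subtype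
      refine no_transitive (A := E22) (H := H) (fun h hh => Subtype.ext (MulEquiv.ext hh))
        (E22_card.trans (by norm_num)) hcardH fun t htt ht1 => ?_
      haveI : Fact (Nat.Prime 2) := ⟨Nat.prime_two⟩
      obtain ⟨a, ha1, hta⟩ : ∃ a : E22, a ≠ 1 ∧ t • a = a := by
        have ht : orderOf t = 2 := orderOf_eq_prime (by rw [pow_two, htt]) ht1
        have hp : IsPGroup 2 (Subgroup.zpowers t) :=
          IsPGroup.of_card (n := 1) (by rw [Nat.card_zpowers, ht, pow_one])
        obtain ⟨b, hb, hne'⟩ := hp.exists_fixed_point_of_prime_dvd_card_of_fixed_point E22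
          (by rw [E22_card]; norm_num) (a := (1 : E22)) (fun g => smul_one (g : H))
        exact ⟨b, hne'.symm, hb ⟨t, Subgroup.mem_zpowers t⟩⟩
      obtain ⟨⟨κ, hκ⟩, e⟩ := (horb.symm ▸ hXall a ha1 : a ∈ MulAction.orbit H (eu 1))
      replace e : κ (eu 1) = a := e
      have hmem : κ⁻¹ * (t : MulAut E22) * κ ∈ K22 := by
        rw [← hK]
        refine Subgroup.mem_inf.mpr ⟨mul_mem (mul_mem (inv_mem hκ) t.2) hκ, ?_⟩
        show κ.symm ((t : MulAut E22) (κ (eu 1))) = eu 1
        rw [e, show (t : MulAut E22) a = a from hta, ← e, MulEquiv.symm_apply_apply]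
      refine (K22_invol_fix hmem ?_ ?_).trans (le_of_eq (Nat.card_congr (κ.toEquiv.subtypeEquiv fun b => ?_)))
      · have : (t : MulAut E22) * t = 1 := congrArg Subtype.val htt
        rw [show κ⁻¹ * (t : MulAut E22) * κ * (κ⁻¹ * t * κ) = κ⁻¹ * (t * t) * κ by group, this, mul_one,
          inv_mul_cancel]
      · intro h
        refine ht1 (Subtype.ext ?_)
        rw [show (t : MulAut E22) = κ * (κ⁻¹ * t * κ) * κ⁻¹ by group, h]
        simp
      · show κ.symm ((t : MulAut E22) (κ b)) = b ↔ (t : MulAut E22) (κ b) = κ b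
        exact κ.symm_apply_eq
  rw [← hfinal, ← Nat.card_coe_set_eq]
  refine (Nat.card_eq_of_bijective (fun v : X => (⟨j v.1, hjmem _, v.2⟩ : {x : G | x ∈ A ∧ IsConj d x})) ⟨?_, ?_⟩).symm
  · intro a b h
    exact Subtype.ext (hj (congrArg Subtype.val h))
  · rintro ⟨x, hx, hconj⟩
    obtain ⟨a, rfl⟩ := (hjr ▸ hx : x ∈ j.range)
    exact ⟨⟨a, hconj⟩, rfl⟩

end CfsgLib.USixFusion
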