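import Cfsg.Agent.Lib.USixFusion.Data
import Cfsg.Agent.Lib.Fi22Fusion.Defs

/-!
Checks on the normalizer of the elementary abelian subgroup of order 2^10 in 2.U6(2).
-/

set_option autoImplicit false
set_option Elab.async false
set_option maxRecDepth 20000

namespace CfsgLib.USixFusion

open CfsgLib.CosetEnum CfsgLib.Fi23Syl
open CfsgLib.Fi22Syl (zVec qc)
open CfsgLib.Fi22Fusion (nAct nTrans memB)

/-- the smaller vector of a class modulo the fixed transposition -/
noncomputable def qn (v : ℕ) : ℕ := bif Nat.ble v (v ^^^ zVec) then v else v ^^^ zVec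

/-- one of the two words -/
noncomputable def uW (k : ℕ) : List ℕ := nthWord uWords k

/-- each vector of the tree is the image of one already present of the same orbit -/
noncomputable def uTreeOK : List ℕ → List (ℕ × ℕ × ℕ × ℕ) → Bool
  | ms, [] => decide (ms = uMasks)
  | ms, (v, k, u, c) :: rest =>
    (ms.getD c 0).testBit u && Nat.blt k 2 && Nat.beq (qn (nAct (uW k) u)) v && Nat.blt u 2048 &&
      uTreeOK (ms.set c ((ms.getD c 0) ||| 2 ^ v)) rest

/-- membership in the union of the selected orbits -/
noncomputable def uMem (m v : ℕ) : Bool :=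
  (nth uMasks 0 0).testBit (qn v) ||
    (List.range 5).any fun i => m.testBit i && (nth uMasks (i + 1) 0).testBit (qn v)

/-- pairs in a union of orbits with a given sum -/
noncomputable def uCnt (m r : ℕ) : ℕ :=
  ((List.range 2048).filter fun y => uMem m y && uMem m (y ^^^ r)).length

/-- the size of a union of orbits -/
noncomputable def uSize (m : ℕ) : ℕ :=
  ((List.range 2048).filter fun y => Nat.beq (qn y) y && uMem m y).length

/-- either a listed selection, or two members with different counts -/
noncomputable def uOptOK (m : ℕ) : Bool :=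
  memB m [0, 1, 2, 31] ||
    (List.range 5).any fun i => m.testBit i && !(Nat.beq (uCnt m (nth uReps (i + 1) 0)) (uCnt m (nth uReps 0 0)))

theorem uWords_ok : allBelow 2 (fun k => ((uW k).all fun g => Nat.blt g 5) && Nat.beq (nAct (uW k) 1) 1) = true := by
  decide +kernel
theorem uTree_ok : uTreeOK (uReps.map fun r => 2 ^ r) uTree = true := by decide +kernel
theorem uCover : allBelow 2048 (fun v => Nat.beq (qn v) 0 ||
    (List.range 6).any fun c => (nth uMasks c 0).testBit (qn v)) = true := by decide +kernel
theorem uMask_zero : allBelow 6 (fun c => !((nth uMasks c 0).testBit 0)) = true := by decide +kernel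
theorem uReps_ok : uReps.all (fun r => Nat.blt r 2048) = true ∧ nth uReps 0 0 = 1 := by decide +kernel
theorem uOpts_ok_0 : (List.range' 0 8).all uOptOK = true := by decide +kernel
theorem uOpts_ok_8 : (List.range' 8 8).all uOptOK = true := by decide +kernel
theorem uOpts_ok_16 : (List.range' 16 8).all uOptOK = true := by decide +kernel
theorem uOpts_ok_24 : (List.range' 24 8).all uOptOK = true := by decide +kernel
theorem uOpts_ok : allBelow 32 uOptOK = true := by
  refine List.all_eq_true.mpr fun x hx => ?_
  rw [List.mem_range] at hx
  have piece : ∀ a, (List.range' a 8).all uOptOK = true → a ≤ x → x < a + 8 → uOptOK x = true :=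
    fun a h h1 h2 => List.all_eq_true.mp h x (List.mem_range'_1.mpr ⟨h1, h2⟩)
  by_cases h1 : x < 8
  · exact piece 0 uOpts_ok_0 (Nat.zero_le x) h1
  by_cases h2 : x < 16
  · exact piece 8 uOpts_ok_8 (by omega) (by omega)
  by_cases h3 : x < 24
  · exact piece 16 uOpts_ok_16 (by omega) (by omega)
  exact piece 24 uOpts_ok_24 (by omega) (by omega)
theorem uSizes_ok : [0, 1, 2, 31].map uSize = [1, 22, 22, 1023] := by decide +kernel
theorem uSpan_ok : allBelow 35 (fun i => allBelow 11 fun j =>
    (List.range 16).any fun c => Nat.beq (comb (nthWord uSpans i) c) (disp (qc i) (2 ^ j))) = true := by decide +kernel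
theorem trans_sep : nTrans.all (fun v => !(memB (v ^^^ zVec) nTrans)) = true := by decide +kernel

end CfsgLib.USixFusion
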