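import Mathlib

/-!
A group transitive on the 1023 nonzero vectors with stabilizer of order 20160 has an involution with few fixed points.
-/

set_option autoImplicit false

namespace CfsgLib.USixFusion

/-- the order -/
abbrev bigN : ℕ := 1023 * 20160

theorem sylow_options : ∀ c ∈ [1, 3, 11, 31, 33, 93, 341, 1023], ∀ j < 11,
    11 ∣ c → c * j ∣ bigN → j ∣ 10 → bigN / (c * j) % 11 = 1 → j = 2 := by decide +kernel

theorem dvd_1023 : ∀ c, c ∣ 1023 → c ∈ [1, 3, 11, 31, 33, 93, 341, 1023] := by
  intro c hc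
  have h : ∀ c < 1024, c ∣ 1023 → c ∈ [1, 3, 11, 31, 33, 93, 341, 1023] := by decide +kernel
  exact h c (by have := Nat.le_of_dvd (by norm_num) hc; omega) hc

variable {A H : Type*} [CommGroup A] [Group H] [Finite A] [Finite H] [MulDistribMulAction H A]

theorem subgroup_options {P : Type*} [Group P] (hP : IsPGroup 11 P) [Finite P] (W : Subgroup A) [MulAction P W]
    (hA : Nat.card A = 2 ^ 10) (h1 : Nat.card (MulAction.fixedPoints P W) = 1) : W = ⊥ ∨ W = ⊤ := by
  haveI : Fact (Nat.Prime 11) := ⟨by norm_num⟩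
  have hm := hP.card_modEq_card_fixedPoints (α := W)
  rw [h1] at hm
  obtain ⟨i, hi, hF⟩ := (Nat.dvd_prime_pow Nat.prime_two).mp (hA ▸ Subgroup.card_subgroup_dvd_card W)
  change Nat.card W % 11 = 1 % 11 at hm
  rw [hF] at hm
  have h : i = 0 ∨ i = 10 := by interval_cases i <;> simp at hm ⊢
  rcases h with rfl | rfl
  · exact Or.inl (Subgroup.eq_bot_of_card_eq _ (by rw [hF, pow_zero]))
  · exact Or.inr (Subgroup.eq_top_of_card_eq _ (by rw [hF, hA]))

theorem no_transitive (hf : ∀ h : H, (∀ a : A, h • a = a) → h = 1) (hA : Nat.card A = 2 ^ 10)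
    (hN : Nat.card H = bigN) (hinv : ∀ t : H, t * t = 1 → t ≠ 1 → 64 ≤ Nat.card {a : A // t • a = a}) : False := by
  classical
  haveI : Fact (Nat.Prime 11) := ⟨by norm_num⟩
  obtain ⟨h, hh⟩ := exists_prime_orderOf_dvd_card' (G := H) 11 (hN ▸ by norm_num)
  set P := Subgroup.zpowers h with hP
  have hPc : Nat.card P = 11 := by rw [hP, Nat.card_zpowers, hh]
  have hPp : IsPGroup 11 P := IsPGroup.of_card (n := 1) (by rw [hPc, pow_one])
  have hfix : ∀ a : A, h • a = a → a = 1 := by
    intro a ha
    let F : Subgroup A :=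
      { carrier := {a | h • a = a}
        one_mem' := smul_one h
        mul_mem' := fun {a b} (ha : h • a = a) (hb : h • b = b) => by show h • (a * b) = a * b; rw [smul_mul', ha, hb]
        inv_mem' := fun {a} (ha : h • a = a) => by show h • a⁻¹ = a⁻¹; rw [smul_inv', ha] }
    have hm := hPp.card_modEq_card_fixedPoints (α := A)
    have hset : MulAction.fixedPoints P A = (F : Set A) := by
      ext x
      refine ⟨fun hx => hx ⟨h, Subgroup.mem_zpowers h⟩, fun hx g => ?_⟩
      obtain ⟨g, k, rfl⟩ := g
      exact (MulAction.mem_stabilizer_iff.mp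
        ((MulAction.stabilizer H x).zpow_mem (MulAction.mem_stabilizer_iff.mpr hx) k) :)
    rw [hset] at hm
    change Nat.card A % 11 = Nat.card F % 11 at hm
    obtain ⟨i, hi, hF⟩ := (Nat.dvd_prime_pow Nat.prime_two).mp (hA ▸ Subgroup.card_subgroup_dvd_card F)
    rw [hA, hF] at hm
    have hi' : i = 0 ∨ i = 10 := by interval_cases i <;> simp at hm ⊢
    rcases hi' with rfl | rfl
    · rw [pow_zero] at hF
      exact Subgroup.mem_bot.mp (Subgroup.eq_bot_of_card_eq _ hF ▸ (show a ∈ F from ha))
    · exfalso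
      have htop : F = ⊤ := Subgroup.eq_top_of_card_eq _ (by rw [hF, hA])
      have h1 : h = 1 := hf h fun x => (htop ▸ Subgroup.mem_top x : x ∈ F)
      rw [h1, orderOf_one] at hh
      norm_num at hh
  set C := Subgroup.centralizer ({h} : Set H) with hC
  have hfree : ∀ c ∈ C, ∀ a : A, a ≠ 1 → c • a = a → c = 1 := by
    intro c hc a ha hca
    have hcomm := Subgroup.mem_centralizer_singleton_iff.mp hc
    let W : Subgroup A :=
      { carrier := {a | c • a = a}
        one_mem' := smul_one c
        mul_mem' := fun {a b} (ha : c • a = a) (hb : c • b = b) => by show c • (a * b) = a * b; rw [smul_mul', ha, hb]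
        inv_mem' := fun {a} (ha : c • a = a) => by show c • a⁻¹ = a⁻¹; rw [smul_inv', ha] }
    have hW : ∀ g : P, ∀ x ∈ W, (g : H) • x ∈ W := by
      rintro ⟨g, k, rfl⟩ x hx
      show c • (h ^ k • x) = h ^ k • x
      rw [← mul_smul, ((show Commute c h from hcomm).zpow_right k).eq, mul_smul]
      exact congrArg _ hx
    letI : MulAction P W :=
      { smul := fun g x => ⟨(g : H) • (x : A), hW g x x.2⟩
        one_smul := fun x => Subtype.ext (one_smul H (x : A))
        mul_smul := fun g g' x => Subtype.ext (mul_smul (g : H) (g' : H) (x : A)) }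
    have hone : Nat.card (MulAction.fixedPoints P W) = 1 := by
      rw [Nat.card_eq_one_iff_exists]
      refine ⟨⟨1, fun g => Subtype.ext (smul_one (g : H))⟩, fun x => Subtype.ext (Subtype.ext ?_)⟩
      exact hfix _ (congrArg Subtype.val (x.2 ⟨h, Subgroup.mem_zpowers h⟩))
    rcases subgroup_options hPp W hA hone with hbot | htop
    · exact absurd (Subgroup.mem_bot.mp (hbot ▸ (show a ∈ W from hca))) ha
    · exact hf c fun x => (htop ▸ Subgroup.mem_top x : x ∈ W)
  have hCdvd : Nat.card C ∣ 1023 := by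
    let S := {a : A // a ≠ 1}
    letI : MulAction C S :=
      { smul := fun c x => ⟨(c : H) • (x : A), fun e => x.2 (by
          have := congrArg ((c : H)⁻¹ • ·) e
          simpa using this)⟩
        one_smul := fun x => Subtype.ext (one_smul H (x : A))
        mul_smul := fun c c' x => Subtype.ext (mul_smul (c : H) (c' : H) (x : A)) }
    have hst : ∀ x : S, MulAction.stabilizer C x = ⊥ := fun x => by
      rw [Subgroup.eq_bot_iff_forall]
      exact fun c hc => Subtype.ext (hfree c c.2 x x.2 (congrArg Subtype.val hc))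
    have hS : Nat.card S = 1023 := by
      have h1 : Nat.card S = Nat.card A - 1 := by
        haveI := Fintype.ofFinite A
        simp [S, Nat.card_eq_fintype_card, Fintype.card_subtype_compl]
      rw [h1, hA]; norm_num
    rw [← hS, Nat.card_congr (MulAction.selfEquivOrbitsQuotientProd hst), Nat.card_prod]
    exact dvd_mul_left ..
  have hpC : 11 ∣ Nat.card C := by
    rw [← hPc]
    refine Subgroup.card_dvd_of_le fun g hg => ?_
    obtain ⟨k, rfl⟩ := hg
    exact Subgroup.mem_centralizer_singleton_iff.mpr ((Commute.refl h).zpow_left k).eq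
  obtain ⟨S, hS⟩ : ∃ S : Sylow 11 H, (S : Subgroup H) = P := by
    refine ⟨hPp.toSylow ?_, rfl⟩
    intro hd
    have := Subgroup.card_mul_index P
    rw [hPc, hN] at this
    obtain ⟨q, hq⟩ := hd
    rw [hq] at this
    simp only [bigN] at this
    omega
  set M := Subgroup.normalizer (P : Set H) with hM
  have hle : C ≤ M := by
    intro c hc
    have hcomm : Commute c h := Subgroup.mem_centralizer_singleton_iff.mp hc
    rw [Subgroup.mem_normalizer_iff]
    intro g
    constructor
    · rintro ⟨k, rfl⟩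
      exact ⟨k, by show h ^ k = c * h ^ k * c⁻¹; rw [(hcomm.zpow_right k).eq, mul_inv_cancel_right]⟩
    · rintro ⟨k, hk⟩
      refine ⟨k, ?_⟩
      show h ^ k = g
      replace hk : h ^ k = c * g * c⁻¹ := hk
      have e : g = c⁻¹ * h ^ k * c := by rw [hk]; group
      rw [e, mul_assoc, ← (hcomm.zpow_right k).eq, inv_mul_cancel_left]
  haveI : IsCyclic P := isCyclic_of_prime_card hPc
  have hker : (P.normalizerMonoidHom).ker = C.subgroupOf M := by
    rw [Subgroup.normalizerMonoidHom_ker]
    congr 1
    rw [hC, hP, Subgroup.zpowers_eq_closure, Subgroup.centralizer_closure]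
  have hj : (C.subgroupOf M).index ∣ 10 := by
    rw [← hker, Subgroup.index_ker]
    refine (Subgroup.card_subgroup_dvd_card _).trans ?_
    rw [IsCyclic.card_mulAut, hPc, Nat.totient_prime (by norm_num)]
  have hMc : Nat.card M = Nat.card C * (C.subgroupOf M).index := by
    rw [← Subgroup.card_mul_index (C.subgroupOf M), Nat.card_congr (Subgroup.subgroupOfEquivOfLe hle).toEquiv]
  have hn : Nat.card (Sylow 11 H) = M.index := by rw [Sylow.card_eq_index_normalizer S, hM, ← hS]; rfl
  have hmod := card_sylow_modEq_one 11 H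
  have hMN := Subgroup.card_mul_index M
  rw [hN, hMc, ← hn] at hMN
  have hpos : 0 < Nat.card C * (C.subgroupOf M).index := by
    rw [← hMc]; exact Nat.card_pos
  have hj2 : (C.subgroupOf M).index = 2 :=
    sylow_options (Nat.card C) (dvd_1023 _ hCdvd) _ (by have := Nat.le_of_dvd (by norm_num) hj; omega) hpC
      ⟨_, hMN.symm⟩ hj (by rw [← hMN, Nat.mul_div_cancel_left _ hpos]; exact hmod)
  -- an involution inverting h
  haveI : Fact (Nat.Prime 2) := ⟨Nat.prime_two⟩
  obtain ⟨⟨t, htM⟩, ht⟩ := exists_prime_orderOf_dvd_card' (G := M) 2 (by rw [hMc, hj2]; exact dvd_mul_left ..)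
  have ht' : orderOf t = 2 := (Subgroup.orderOf_mk t htM).symm.trans ht
  have htt : t * t = 1 := by rw [← pow_two, ← ht', pow_orderOf_eq_one]
  have ht1 : t ≠ 1 := fun e => by rw [e, orderOf_one] at ht'; norm_num at ht'
  have htC : t ∉ C := fun hc => by
    have h2 : 2 ∣ 1023 := ht' ▸ (Subgroup.orderOf_dvd_natCard C hc).trans hCdvd
    norm_num at h2
  obtain ⟨k, hk⟩ := (Subgroup.mem_normalizer_iff.mp htM h).mp (Subgroup.mem_zpowers h)
  replace hk : h ^ k = t * h * t⁻¹ := hk
  have hinvt : t⁻¹ = t := inv_eq_of_mul_eq_one_right htt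
  have hthk : t * h * t⁻¹ = h⁻¹ := by
    have e2 : h ^ (k * k) = h := by
      rw [zpow_mul, hk, conj_zpow, hk, hinvt]
      calc t * (t * h * t) * t = (t * t) * h * (t * t) := by group
        _ = h := by rw [htt, one_mul, mul_one]
    have h11 : (11 : ℤ) ∣ k * k - 1 := by
      have := orderOf_dvd_iff_zpow_eq_one.mpr (show h ^ (k * k - 1) = 1 by rw [zpow_sub_one, e2, mul_inv_cancel])
      rwa [hh] at this
    rw [show k * k - 1 = (k - 1) * (k + 1) by ring] at h11
    rcases (Int.Prime.dvd_mul' (by norm_num) h11) with h' | h'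
    · exfalso
      refine htC (Subgroup.mem_centralizer_singleton_iff.mpr ?_)
      have : h ^ (k - 1) = 1 := orderOf_dvd_iff_zpow_eq_one.mp (by rw [hh]; exact h')
      rw [zpow_sub_one, mul_inv_eq_one] at this
      rw [this] at hk
      exact (mul_inv_eq_iff_eq_mul.mp hk.symm)
    · have : h ^ (k + 1) = 1 := orderOf_dvd_iff_zpow_eq_one.mp (by rw [hh]; exact h')
      rw [zpow_add_one, mul_eq_one_iff_eq_inv] at this
      rw [← hk, this]
  -- its fixed space meets its translate trivially
  let W := {a : A // t • a = a}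
  have hsmall : Nat.card W ≤ 32 := by
    have hth : ∀ a : A, t • h • a = h⁻¹ • t • a := fun a => by
      rw [← mul_smul, ← mul_smul, ← hthk, inv_mul_cancel_right]
    have hinj : Function.Injective (fun p : W × W => (p.1 : A) * h • (p.2 : A)) := by
      rintro ⟨⟨u, hu⟩, ⟨w, hw⟩⟩ ⟨⟨u', hu'⟩, ⟨w', hw'⟩⟩ e
      replace e : u * h • w = u' * h • w' := e
      have hd : h • (w * w'⁻¹) = u⁻¹ * u' := by
        rw [smul_mul', smul_inv']
        calc h • w * (h • w')⁻¹ = u⁻¹ * (u * h • w) * (h • w')⁻¹ := by rw [inv_mul_cancel_left]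
          _ = u⁻¹ * u' := by rw [e, ← mul_assoc, mul_inv_cancel_right]
      have hfw : t • (w * w'⁻¹) = w * w'⁻¹ := by rw [smul_mul', smul_inv', hw, hw']
      have h2 : h • (w * w'⁻¹) = h⁻¹ • (w * w'⁻¹) := by
        have := hth (w * w'⁻¹)
        rw [hfw, hd, smul_mul', smul_inv', hu, hu'] at this
        rw [hd, this]
      have h3 : (h * h) • (w * w'⁻¹) = w * w'⁻¹ := by
        rw [mul_smul, h2, smul_inv_smul]
      have h4 : h • (w * w'⁻¹) = w * w'⁻¹ := by
        have hp : h = (h * h) ^ 6 := by
          rw [← pow_two, ← pow_mul, show 2 * 6 = 11 + 1 from rfl, pow_succ, ← hh, pow_orderOf_eq_one, one_mul]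
        rw [hp]
        exact (MulAction.mem_stabilizer_iff.mp
          (pow_mem (MulAction.mem_stabilizer_iff.mpr h3) 6) :)
      have hww : w = w' := mul_inv_eq_one.mp (hfix _ h4)
      subst hww
      obtain rfl : u = u' := mul_right_cancel e
      rfl
    have := Nat.card_le_card_of_injective _ hinj
    rw [Nat.card_prod, hA] at this
    by_contra hlt
    have : 33 * 33 ≤ Nat.card W * Nat.card W := Nat.mul_le_mul (by omega) (by omega)
    omega
  exact absurd ((hinv t htt ht1).trans hsmall) (by norm_num)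

end CfsgLib.USixFusion
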