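import Mathlib
import Cfsg.Prelude.Def_KGroupFacts

/-!
Double covers of a group with multiplier 3 × 2 × 2: any is isomorphic to one of three inequivalent ones.
-/

set_option autoImplicit false

open scoped commutatorElement

namespace CfsgLib.USixFusion

variable {Q : Type} [Group Q]

/-- the derived subgroup of a fibre product -/
theorem exists_fibre (hperf : commutator Q = ⊤) {A B : Type} [Group A] [Group B] [Finite A] [Finite B]
    {σ : A →* Q} {τ : B →* Q} (hσ : Cfsg.IsStemExtension σ) (hτ : Cfsg.IsStemExtension τ) :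
    ∃ (D : Type) (_ : Group D) (_ : Finite D) (p : D →* A) (q : D →* B), Function.Surjective p ∧
      Function.Surjective q ∧ σ.comp p = τ.comp q ∧ (∀ x, p x = 1 → q x = 1 → x = 1) ∧
      Cfsg.IsStemExtension (σ.comp p) := by
  let P : Subgroup (A × B) := (σ.comp (MonoidHom.fst A B)).eqLocus (τ.comp (MonoidHom.snd A B))
  let pA : P →* A := (MonoidHom.fst A B).comp P.subtype
  let pB : P →* B := (MonoidHom.snd A B).comp P.subtype
  let ν : P →* Q := σ.comp pA
  have heq : ∀ x : P, σ (pA x) = τ (pB x) := fun x => x.2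
  have hA : Function.Surjective pA := fun a => by
    obtain ⟨b, hb⟩ := hτ.1 (σ a)
    exact ⟨⟨(a, b), hb.symm⟩, rfl⟩
  have hB : Function.Surjective pB := fun b => by
    obtain ⟨a, ha⟩ := hσ.1 (τ b)
    exact ⟨⟨(a, b), ha⟩, rfl⟩
  have hcent : ν.ker ≤ Subgroup.center P := fun p hp => Subgroup.mem_center_iff.mpr fun y => by
    refine Subtype.ext (Prod.ext ?_ ?_)
    · exact Subgroup.mem_center_iff.mp (hσ.2.1 hp) (pA y)
    · exact Subgroup.mem_center_iff.mp (hτ.2.1 (MonoidHom.mem_ker.mpr ((heq p).symm.trans hp))) (pB y)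
  let R : Subgroup P := commutator P
  let μ : R →* Q := ν.comp R.subtype
  have hRν : R.map ν = ⊤ := by
    rw [show R = commutator P from rfl, commutator_def, Subgroup.map_commutator,
      Subgroup.map_top_of_surjective ν (hσ.1.comp hA), ← commutator_def, hperf]
  have hμ : Function.Surjective μ := fun q => by
    obtain ⟨r, hr, rfl⟩ := show q ∈ R.map ν from hRν ▸ Subgroup.mem_top q
    exact ⟨⟨r, hr⟩, rfl⟩
  have hdec : ∀ p : P, ∃ z ∈ Subgroup.center P, ∃ r ∈ R, p = z * r := fun p => by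
    obtain ⟨r, hr⟩ := hμ (ν p)
    refine ⟨p * (r : P)⁻¹, hcent ?_, r, r.2, by group⟩
    rw [MonoidHom.mem_ker, map_mul, map_inv, show ν (r : P) = ν p from hr, mul_inv_cancel]
  have hRperf : commutator P ≤ (commutator R).map R.subtype := by
    rw [commutator_def, Subgroup.commutator_le]
    intro x _ y _
    obtain ⟨z, hz, r, hr, rfl⟩ := hdec x
    obtain ⟨w, hw, s, hs, rfl⟩ := hdec y
    have e : ⁅z * r, w * s⁆ = ⁅r, s⁆ := by
      have hz' : ∀ t, Commute z t := fun t => (Subgroup.mem_center_iff.mp hz t).symm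
      have hw' : ∀ t, Commute w t := fun t => (Subgroup.mem_center_iff.mp hw t).symm
      rw [commutatorElement_def, commutatorElement_def, mul_inv_rev, mul_inv_rev]
      calc z * r * (w * s) * (r⁻¹ * z⁻¹) * (s⁻¹ * w⁻¹)
          = z * (r * w) * s * r⁻¹ * (z⁻¹ * (s⁻¹ * w⁻¹)) := by group
        _ = z * (w * r) * s * r⁻¹ * ((s⁻¹ * w⁻¹) * z⁻¹) := by rw [(hw' r).eq, (hz' _).inv_left.eq]
        _ = z * (w * (r * s * r⁻¹ * s⁻¹)) * w⁻¹ * z⁻¹ := by group
        _ = z * ((r * s * r⁻¹ * s⁻¹) * w) * w⁻¹ * z⁻¹ := by rw [(hw' _).eq]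
        _ = z * (r * s * r⁻¹ * s⁻¹) * z⁻¹ := by group
        _ = r * s * r⁻¹ * s⁻¹ := by rw [(hz' _).eq, mul_inv_cancel_right]
    rw [e]
    exact ⟨⁅(⟨r, hr⟩ : R), ⟨s, hs⟩⁆, Subgroup.commutator_mem_commutator trivial trivial, rfl⟩
  have hRtop : commutator R = ⊤ := eq_top_iff.mpr fun r _ => by
    obtain ⟨r', hr', e⟩ := hRperf r.2
    rwa [show r = r' from (Subtype.ext e).symm]
  have htop : ∀ {X : Type} [Group X] {ρ : X →* Q}, Cfsg.IsStemExtension ρ → commutator X = ⊤ := fun {X} _ {ρ} h => by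
    refine eq_top_iff.mpr fun x _ => ?_
    have hm : (commutator X).map ρ = ⊤ := by
      rw [commutator_def, Subgroup.map_commutator, Subgroup.map_top_of_surjective ρ h.1, ← commutator_def, hperf]
    obtain ⟨c, hc, hcx⟩ := show ρ x ∈ (commutator X).map ρ from hm ▸ Subgroup.mem_top _
    have hk : x * c⁻¹ ∈ ρ.ker := by rw [MonoidHom.mem_ker, map_mul, map_inv, hcx, mul_inv_cancel]
    have := mul_mem (h.2.2 hk) hc
    simpa using this
  have hsurjA : Function.Surjective (pA.comp R.subtype) := fun a => by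
    have e : R.map pA = ⊤ := by
      rw [show R = commutator P from rfl, commutator_def, Subgroup.map_commutator,
        Subgroup.map_top_of_surjective pA hA, ← commutator_def, htop hσ]
    obtain ⟨r, hr, e'⟩ := show a ∈ R.map pA from e ▸ Subgroup.mem_top a
    exact ⟨⟨r, hr⟩, e'⟩
  have hsurjB : Function.Surjective (pB.comp R.subtype) := fun a => by
    have e : R.map pB = ⊤ := by
      rw [show R = commutator P from rfl, commutator_def, Subgroup.map_commutator,
        Subgroup.map_top_of_surjective pB hB, ← commutator_def, htop hτ]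
    obtain ⟨r, hr, e'⟩ := show a ∈ R.map pB from e ▸ Subgroup.mem_top a
    exact ⟨⟨r, hr⟩, e'⟩
  refine ⟨R, inferInstance, inferInstance, pA.comp R.subtype, pB.comp R.subtype, hsurjA, hsurjB,
    MonoidHom.ext fun x => heq x.1, fun x h1 h2 => Subtype.ext (Subtype.ext (Prod.ext h1 h2)), hμ, ?_, ?_⟩
  · exact fun r hr => Subgroup.mem_center_iff.mpr fun y => Subtype.ext (Subgroup.mem_center_iff.mp (hcent hr) y)
  · rw [hRtop]; exact le_top

/-- a stem extension with kernel of exponent two -/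
theorem card_le_four (hM : Cfsg.HasSchurMultiplier Q (Multiplicative (ZMod 3 × ZMod 2 × ZMod 2)))
    {D : Type} [Group D] [Finite D] {ν : D →* Q} (hν : Cfsg.IsStemExtension ν)
    (hsq : ∀ x ∈ ν.ker, x * x = 1) : Nat.card ν.ker ≤ 4 := by
  obtain ⟨π, hπ⟩ := hM.2 D ν hν
  let f : ZMod 2 × ZMod 2 → ν.ker := fun u => π (Multiplicative.ofAdd (0, u))
  have hf : Function.Surjective f := by
    intro y
    obtain ⟨m, rfl⟩ := hπ y
    refine ⟨(Multiplicative.toAdd m).2, ?_⟩
    obtain ⟨a, u⟩ := m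
    have h3 : π (Multiplicative.ofAdd ((a, 0) : ZMod 3 × ZMod 2 × ZMod 2)) = 1 := by
      set g := π (Multiplicative.ofAdd ((a, 0) : ZMod 3 × ZMod 2 × ZMod 2))
      have e3 : g ^ 3 = 1 := by
        rw [← map_pow, ← ofAdd_nsmul, show (3 : ℕ) • ((a, 0) : ZMod 3 × ZMod 2 × ZMod 2) = 0 from
          Prod.ext (by revert a; decide +kernel) (by simp)]
        exact map_one π
      have e2 : g ^ 2 = 1 := by rw [pow_two]; exact Subtype.ext (hsq g g.2)
      rwa [pow_succ, e2, one_mul] at e3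
    show π (Multiplicative.ofAdd (0, u)) = π (Multiplicative.ofAdd (a, u))
    rw [show ((a, u) : ZMod 3 × ZMod 2 × ZMod 2) = (a, 0) + (0, u) from Prod.ext (add_zero a).symm (zero_add u).symm,
      ofAdd_add, map_mul, h3, one_mul]
  have := Nat.card_le_card_of_surjective f hf
  simpa [Nat.card_prod, Nat.card_zmod] using this

theorem sq_of_two {B : Type} [Group B] {τ : B →* Q} (h : Nat.card τ.ker = 2) {x : B} (hx : x ∈ τ.ker) :
    x * x = 1 := by
  have := congrArg Subtype.val (pow_card_eq_one' (x := (⟨x, hx⟩ : τ.ker)))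
  rw [h] at this
  simpa [pow_two] using this

/-- any double cover is isomorphic to the source of three inequivalent ones -/
theorem exists_iso (hperf : commutator Q = ⊤)
    (hM : Cfsg.HasSchurMultiplier Q (Multiplicative (ZMod 3 × ZMod 2 × ZMod 2)))
    {A B : Type} [Group A] [Group B] [Finite A] [Finite B] {a b c : A →* Q} {τ : B →* Q}
    (ha : Cfsg.IsStemExtension a) (hb : Cfsg.IsStemExtension b) (hc : Cfsg.IsStemExtension c)
    (ka : Nat.card a.ker = 2) (kb : Nat.card b.ker = 2) (kc : Nat.card c.ker = 2)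
    (hab : ∀ θ : A →* A, b.comp θ ≠ a) (hac : ∀ θ : A →* A, c.comp θ ≠ a) (hbc : ∀ θ : A →* A, c.comp θ ≠ b)
    (hτ : Cfsg.IsStemExtension τ) (kτ : Nat.card τ.ker = 2) : Nonempty (A ≃* B) := by
  classical
  obtain ⟨D, _, _, p, q, hp, hq, hpq, hjoint, hν⟩ := exists_fibre hperf ha hb
  set ν : D →* Q := a.comp p with hνdef
  have hqk : ∀ x ∈ ν.ker, q x ∈ b.ker := fun x hx => by
    rw [MonoidHom.mem_ker] at hx ⊢
    rwa [hpq] at hx
  have hsq : ∀ x ∈ ν.ker, x * x = 1 := fun x hx => hjoint _ (by rw [map_mul]; exact sq_of_two ka hx)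
    (by rw [map_mul]; exact sq_of_two kb (hqk x hx))
  have hple : ∃ x, p x = 1 ∧ x ≠ 1 := by
    by_contra! h
    let e : D ≃* A := MulEquiv.ofBijective p ⟨(injective_iff_map_eq_one p).mpr h, hp⟩
    refine hab (q.comp e.symm.toMonoidHom) (MonoidHom.ext fun y => ?_)
    have := congrArg (fun f : D →* Q => f (e.symm y)) hpq
    show b (q (e.symm y)) = a y
    refine this.symm.trans ?_
    exact congrArg a (e.apply_symm_apply y)
  have h4 : Nat.card ν.ker = 4 := by
    refine le_antisymm (card_le_four hM hν hsq) ?_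
    obtain ⟨x, hx, hx1⟩ := hple
    let f : ν.ker →* a.ker := (p.comp ν.ker.subtype).codRestrict a.ker fun y => y.2
    have hf : Function.Surjective f := fun z => by
      obtain ⟨w, hw⟩ := hp z
      exact ⟨⟨w, by show a (p w) = 1; rw [hw]; exact z.2⟩, Subtype.ext hw⟩
    have hk := Subgroup.card_eq_card_quotient_mul_card_subgroup f.ker
    rw [Nat.card_congr (QuotientGroup.quotientKerEquivOfSurjective f hf).toEquiv, ka] at hk
    have hxk : x ∈ ν.ker := by show a (p x) = 1; rw [hx, map_one]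
    have h2 : 2 ≤ Nat.card f.ker := by
      have hne : (⟨⟨x, hxk⟩, Subtype.ext hx⟩ : f.ker) ≠ 1 := fun e => hx1 (congrArg (fun z : f.ker => (z.1.1 : D)) e)
      have : Nontrivial f.ker := ⟨⟨_, _, hne⟩⟩
      exact Finite.one_lt_card
    omega
  have factor : ∀ {C : Type} [Group C] [Finite C] {ρ : C →* Q}, Cfsg.IsStemExtension ρ → Nat.card ρ.ker = 2 →
      ∃ r : D →* C, Function.Surjective r ∧ ρ.comp r = ν := by
    intro C _ _ ρ hρ kρ
    obtain ⟨D', _, _, p', q', hp', hq', hpq', hjoint', hν'⟩ := exists_fibre hperf hν hρ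
    have hle := card_le_four hM hν' fun x hx => hjoint' _ (by rw [map_mul]; exact hsq _ hx) (by
      rw [map_mul]
      refine sq_of_two kρ ?_
      rw [MonoidHom.mem_ker] at hx ⊢
      rwa [hpq'] at hx)
    let f : (ν.comp p').ker → ν.ker := fun z => ⟨p' z, z.2⟩
    have hf : Function.Surjective f := fun z => by
      obtain ⟨w, hw⟩ := hp' z
      exact ⟨⟨w, by show ν (p' w) = 1; rw [hw]; exact z.2⟩, Subtype.ext hw⟩
    have hb' : Function.Bijective f := (Nat.bijective_iff_surjective_and_card f).mpr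
      ⟨hf, le_antisymm (h4.symm ▸ hle) (Nat.card_le_card_of_surjective f hf)⟩
    have hinj : Function.Injective p' := (injective_iff_map_eq_one p').mpr fun z hz => by
      have hzk : z ∈ (ν.comp p').ker := by show ν (p' z) = 1; rw [hz, map_one]
      exact congrArg Subtype.val (hb'.1 (a₁ := ⟨z, hzk⟩) (a₂ := 1) (Subtype.ext (by
        show p' z = p' 1
        rw [hz, map_one])))
    let e : D' ≃* D := MulEquiv.ofBijective p' ⟨hinj, hp'⟩
    refine ⟨q'.comp e.symm.toMonoidHom, hq'.comp e.symm.surjective, MonoidHom.ext fun z => ?_⟩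
    have := congrArg (fun g : D' →* Q => g (e.symm z)) hpq'
    refine this.symm.trans ?_
    exact congrArg ν (e.apply_symm_apply z)
  obtain ⟨s, hs, hsν⟩ := factor hc kc
  obtain ⟨r, hr, hrν⟩ := factor hτ kτ
  -- each kernel has one involution
  have gen : ∀ {C : Type} [Group C] [Finite C] {ρ : C →* Q} (t : D →* C), Function.Surjective t → ρ.comp t = ν →
      Nat.card ρ.ker = 2 → ∃ x ∈ ν.ker, x ≠ 1 ∧ ∀ y, t y = 1 ↔ y = 1 ∨ y = x := by
    intro C _ _ ρ t ht htν kρ
    have hle : t.ker ≤ ν.ker := fun y hy => by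
      rw [← htν, MonoidHom.mem_ker, MonoidHom.comp_apply, MonoidHom.mem_ker.mp hy, map_one]
    let f : ν.ker →* ρ.ker := (t.comp ν.ker.subtype).codRestrict ρ.ker fun y => by
      show ρ (t y) = 1
      rw [← MonoidHom.comp_apply, htν]; exact y.2
    have hf : Function.Surjective f := fun z => by
      obtain ⟨w, hw⟩ := ht z
      exact ⟨⟨w, by show ν w = 1; rw [← htν, MonoidHom.comp_apply, hw]; exact z.2⟩, Subtype.ext hw⟩
    have hk := Subgroup.card_eq_card_quotient_mul_card_subgroup f.ker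
    rw [Nat.card_congr (QuotientGroup.quotientKerEquivOfSurjective f hf).toEquiv, h4, kρ] at hk
    obtain ⟨w, hw1, huniq⟩ := (Nat.card_eq_two_iff' (1 : f.ker)).mp (by omega)
    refine ⟨w.1.1, w.1.2, fun e => hw1 (Subtype.ext (Subtype.ext e)), fun y => ⟨fun hy => ?_, ?_⟩⟩
    · by_cases hy1 : y = 1
      · exact Or.inl hy1
      · have hyk : (⟨y, hle hy⟩ : ν.ker) ∈ f.ker := Subtype.ext hy
        exact Or.inr (congrArg (fun z : f.ker => (z.1.1 : D))
          (huniq ⟨_, hyk⟩ fun e => hy1 (congrArg (fun z : f.ker => (z.1.1 : D)) e)))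
    · rintro (rfl | rfl)
      · exact map_one t
      · exact congrArg Subtype.val w.2
  obtain ⟨xa, hxa, hxa1, hpa⟩ := gen p hp rfl ka
  obtain ⟨xb, hxb, hxb1, hqb⟩ := gen q hq hpq.symm kb
  obtain ⟨xc, hxc, hxc1, hsc⟩ := gen s hs hsν kc
  obtain ⟨xt, hxt, hxt1, hrt⟩ := gen r hr hrν kτ
  have lift : ∀ {C : Type} [Group C] {ρ : C →* Q} (t : D →* C) (t' : D →* A) (ρ' : A →* Q),
      Function.Surjective t → (∀ y, t y = 1 → t' y = 1) → ρ.comp t = ν → ρ'.comp t' = ν →
      ∃ θ : C →* A, ρ'.comp θ = ρ := by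
    intro C _ ρ t t' ρ' ht hker h1 h2
    refine ⟨t.liftOfSurjective ht ⟨t', fun y hy => hker y hy⟩, MonoidHom.ext fun z => ?_⟩
    obtain ⟨y, rfl⟩ := ht z
    rw [MonoidHom.comp_apply, MonoidHom.liftOfRightInverse_comp_apply]
    show (ρ'.comp t') y = (ρ.comp t) y
    rw [h2, h1]
  have nab : xa ≠ xb := fun e => hxa1 (hjoint xa ((hpa _).mpr (Or.inr rfl)) ((hqb _).mpr (Or.inr e)))
  have nac : xa ≠ xc := fun e => by
    obtain ⟨θ, hθ⟩ := lift p s c hp (fun y hy => (hsc y).mpr (e ▸ (hpa y).mp hy)) rfl hsν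
    exact hac θ hθ
  have nbc : xb ≠ xc := fun e => by
    obtain ⟨θ, hθ⟩ := lift q s c hq (fun y hy => (hsc y).mpr (e ▸ (hqb y).mp hy)) hpq.symm hsν
    exact hbc θ hθ
  have hall : xt = xa ∨ xt = xb ∨ xt = xc := by
    by_contra! h
    obtain ⟨n1, n2, n3⟩ := h
    let T : Finset D := {1, xa, xb, xc, xt}
    have hT : T.card = 5 := by
      simp [T, Finset.card_insert_of_notMem, hxa1.symm, hxb1.symm, hxc1.symm, hxt1.symm, nab, nac, nbc, n1.symm,
        n2.symm, n3.symm]
    have hsub : (T : Set D) ⊆ (ν.ker : Set D) := by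
      intro y hy
      simp only [T, Finset.coe_insert, Finset.coe_singleton, Set.mem_insert_iff, Set.mem_singleton_iff] at hy
      rcases hy with rfl | rfl | rfl | rfl | rfl
      · exact one_mem _
      all_goals assumption
    have := Nat.card_mono (Set.toFinite _) hsub
    simp only [Finset.coe_sort_coe, Nat.card_eq_fintype_card, Fintype.card_coe, hT] at this
    change 5 ≤ Nat.card ν.ker at this
    omega
  have build : ∀ t : D →* A, Function.Surjective t → (∀ y, t y = 1 ↔ y = 1 ∨ y = xt) → Nonempty (A ≃* B) := by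
    intro t ht htk
    have hk : t.ker = r.ker := Subgroup.ext fun y => (htk y).trans (hrt y).symm
    exact ⟨(QuotientGroup.quotientKerEquivOfSurjective t ht).symm.trans
      ((QuotientGroup.quotientMulEquivOfEq hk).trans (QuotientGroup.quotientKerEquivOfSurjective r hr))⟩
  rcases hall with rfl | rfl | rfl
  · exact build p hp hpa
  · exact build q hq hqb
  · exact build s hs hsc

end CfsgLib.USixFusion
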